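import Groth.Agent.Lib.HTop.PhExtend

/-! # Composition and base change of ph coverings -/

universe w w' w'' u

open CategoryTheory CategoryTheory.Limits AlgebraicGeometry Opposite TopologicalSpace

namespace GrothLib.HTop

open _root_.HTop

variable {T : Scheme.{u}}

/-- A standard ph covering from a proper surjective morphism with locally refining source. -/
theorem exists_standardPh {U : Scheme.{u}} [IsAffine U] (g : U ⟶ T) (E : PreZeroHypercover.{w} T)
    {Z : Scheme.{u}} (π : Z ⟶ U) [IsProper π] [Surjective π]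
    (h : ∀ z : Z, ∃ (W : Scheme.{u}) (a : W ⟶ Z), IsAffine W ∧ IsOpenImmersion a ∧ z ∈ Set.range a ∧
      ∃ (i : E.I₀) (k : W ⟶ E.X i), k ≫ E.f i = a ≫ π ≫ g) :
    ∃ F : PreZeroHypercover.{0} U, IsStandardPh F ∧ RefinesOver g F E := by
  choose W a hW ha hz i k hk using h
  have : CompactSpace Z := QuasiCompact.compactSpace_of_compactSpace π
  obtain ⟨s, hs⟩ := CompactSpace.isCompact_univ.elim_finite_subcover (fun z => Set.range (a z))
    (fun z => (a z).isOpenEmbedding.isOpen_range) (fun z _ => Set.mem_iUnion.2 ⟨z, hz z⟩)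
  let e := s.equivFin.symm
  let F : PreZeroHypercover.{0} U := ⟨Fin s.card, fun m => W (e m).1, fun m => a (e m).1 ≫ π⟩
  refine ⟨F, ⟨inferInstance, inferInstanceAs (Finite (Fin s.card)), fun m => hW _, Z, π, fun m => a (e m).1,
    inferInstance, inferInstance, fun m => ha _, fun m => rfl, fun z => ?_⟩, fun m =>
    ⟨i _, k _, (hk _).trans (Category.assoc _ _ _).symm⟩⟩
  obtain ⟨x, hx, hxz⟩ := Set.mem_iUnion₂.1 (hs (Set.mem_univ z))
  refine ⟨e.symm ⟨x, hx⟩, ?_⟩
  change z ∈ Set.range (a (e (e.symm ⟨x, hx⟩)).1)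
  rwa [Equiv.apply_symm_apply]

theorem exists_common_proper {U : Scheme.{u}} {J : Type w} [Finite J] (Z : J → Scheme.{u})
    (q : ∀ j, Z j ⟶ U) (hq : ∀ j, IsProper (q j)) (hqs : ∀ j, Surjective (q j)) :
    ∃ (P : Scheme.{u}) (p : P ⟶ U) (r : ∀ j, P ⟶ Z j),
      IsProper p ∧ Surjective p ∧ ∀ j, r j ≫ q j = p := by
  classical
  have := Fintype.ofFinite J
  have h : ∀ t : Finset J, ∃ (P : Scheme.{u}) (p : P ⟶ U), IsProper p ∧ Surjective p ∧
      ∀ j ∈ t, ∃ r : P ⟶ Z j, r ≫ q j = p := fun t => by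
    induction t using Finset.induction_on with
    | empty => exact ⟨U, 𝟙 U, inferInstance, inferInstance, by simp⟩
    | insert j t _ ih =>
      obtain ⟨P, p, hp, hps, hr⟩ := ih
      have := hq j
      have := hqs j
      refine ⟨pullback p (q j), pullback.fst p (q j) ≫ p, inferInstance, inferInstance, fun i hi => ?_⟩
      rcases Finset.mem_insert.1 hi with rfl | hi
      · exact ⟨pullback.snd p (q i), pullback.condition.symm⟩
      · obtain ⟨r, hr⟩ := hr i hi
        exact ⟨pullback.fst p (q j) ≫ r, by rw [Category.assoc, hr]⟩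
  obtain ⟨P, p, hp, hps, hr⟩ := h Finset.univ
  choose r hr using fun j => hr j (Finset.mem_univ j)
  exact ⟨P, p, r, hp, hps, hr⟩

/-- A standard ph covering refines the composite of standard ph coverings. -/
theorem exists_standardPh_bind (E : PreZeroHypercover.{w} T) (hE : IsStandardPh E)
    (F : ∀ j, PreZeroHypercover.{w'} (E.X j)) (hF : ∀ j, IsStandardPh (F j)) :
    ∃ F' : PreZeroHypercover.{0} T, IsStandardPh F' ∧ RefinesOver (𝟙 T) F' (E.bind F) := by
  have := hE.isAffine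
  have := hE.finite_index
  obtain ⟨U, f, ι, hf, hfs, hι, hc, hcov⟩ := hE.exists_proper
  choose V g κ hg hgs hκ hgc hgcov using fun j => (hF j).exists_proper
  have : CompactSpace U := QuasiCompact.compactSpace_of_compactSpace f
  have : QuasiSeparatedSpace U := quasiSeparatedSpace_of_quasiSeparated f
  have hA : ∀ j, IsAffineOpen (ι j).opensRange := fun j => by
    have := hE.isAffine_obj j
    exact isAffineOpen_opensRange (ι j)
  have hgp : ∀ j, IsProper (g j ≫ (ι j).isoOpensRange.hom) := fun j => by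
    have := hg j
    infer_instance
  have hgps : ∀ j, Surjective (g j ≫ (ι j).isoOpensRange.hom) := fun j => by
    have := hgs j
    infer_instance
  choose Z q s hq hqs hs using fun j =>
    @exists_proper_extension U _ _ (ι j).opensRange (hA j) _ (g j ≫ (ι j).isoOpensRange.hom) (hgp j)
      (hgps j)
  obtain ⟨P, p, r, hp, hps, hr⟩ := exists_common_proper Z q hq hqs
  refine exists_standardPh (𝟙 T) (E.bind F) (p ≫ f) fun z => ?_
  obtain ⟨j, hj⟩ := hcov (p z)
  let O₀ : (Z j).Opens := q j ⁻¹ᵁ (ι j).opensRange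
  let O : P.Opens := r j ⁻¹ᵁ O₀
  have hzO : z ∈ O := by
    change q j (r j z) ∈ (ι j).opensRange
    rw [← Scheme.Hom.comp_apply, hr]
    exact hj
  let m : (O : Scheme.{u}) ⟶ V j := (r j ∣_ O₀) ≫ s j
  obtain ⟨k, hk⟩ := hgcov j (m ⟨z, hzO⟩)
  have := hκ j k
  obtain ⟨W, hW, hzW, hWk⟩ := Opens.isBasis_iff_nbhd.mp (O : Scheme.{u}).isBasis_affineOpens
    (show (⟨z, hzO⟩ : O) ∈ m ⁻¹ᵁ (κ j k).opensRange from hk)
  obtain ⟨l, hl⟩ : ∃ l, l ≫ κ j k = Scheme.Opens.ι W ≫ m := ⟨_, IsOpenImmersion.lift_fac (κ j k) _ (by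
    rintro _ ⟨x, rfl⟩
    exact hWk x.2)⟩
  refine ⟨W, Scheme.Opens.ι W ≫ O.ι, hW, inferInstance, ⟨⟨⟨z, hzO⟩, hzW⟩, rfl⟩, ⟨j, k⟩, l, ?_⟩
  change l ≫ (F j).f k ≫ E.f j = _
  rw [← hgc j k, ← hc j, Category.assoc, reassoc_of% hl]
  simp only [m, Category.assoc]
  have h1 : s j ≫ g j ≫ ι j = O₀.ι ≫ q j := by
    rw [← morphismRestrict_ι, ← hs j]
    simp
  rw [reassoc_of% h1, morphismRestrict_ι_assoc, reassoc_of% (hr j), Category.comp_id]

/-- `g : U ⟶ T` admits a standard ph covering refining `E`. -/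
def PhGood (E : PreZeroHypercover.{w} T) {U : Scheme.{u}} (g : U ⟶ T) : Prop :=
  ∃ F : PreZeroHypercover.{0} U, IsStandardPh F ∧ RefinesOver g F E

theorem PhGood.comp {E : PreZeroHypercover.{w} T} {U : Scheme.{u}} {g : U ⟶ T} (h : PhGood E g)
    {W : Scheme.{u}} [IsAffine W] (a : W ⟶ U) : PhGood E (a ≫ g) := by
  obtain ⟨F, hF, hr⟩ := h
  refine ⟨F.pullback₁ a, isStandardPh_pullback₁ a F hF, fun j => ?_⟩
  obtain ⟨i, k, hk⟩ := hr j
  refine ⟨i, pullback.snd a (F.f j) ≫ k, ?_⟩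
  exact (Category.assoc _ _ _).trans ((congrArg (pullback.snd a (F.f j) ≫ ·) hk).trans
    (pullback.condition_assoc g).symm)

theorem PhGood.of_standardPh {E : PreZeroHypercover.{w} T} {U : Scheme.{u}} (g : U ⟶ T)
    (G : PreZeroHypercover.{w'} U) (hG : IsStandardPh G) (h : ∀ j, PhGood E (G.f j ≫ g)) :
    PhGood E g := by
  choose F hF hr using h
  obtain ⟨F', hF', hr'⟩ := exists_standardPh_bind G hG F hF
  refine ⟨F', hF', fun m => ?_⟩
  obtain ⟨jk, k, hk⟩ := hr' m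
  obtain ⟨i, k', hk'⟩ := hr jk.1 jk.2
  refine ⟨i, k ≫ k', ?_⟩
  have hk2 : k ≫ (F jk.1).f jk.2 ≫ G.f jk.1 = F'.f m := hk.trans (Category.comp_id _)
  exact (Category.assoc _ _ _).trans ((congrArg (k ≫ ·) hk').trans
    (by rw [← hk2]; simp only [Category.assoc]; rfl))

theorem PhGood.of_locally {E : PreZeroHypercover.{w} T} {U : Scheme.{u}} [IsAffine U] (g : U ⟶ T)
    (h : ∀ x : U, ∃ W : U.Opens, x ∈ W ∧ IsAffineOpen W ∧ PhGood E (W.ι ≫ g)) : PhGood E g := by
  choose W hxW hW hgood using h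
  obtain ⟨G, hG, hr⟩ := exists_standardPh (𝟙 U) (⟨U, fun x => (W x : Scheme.{u}), fun x => (W x).ι⟩ :
    PreZeroHypercover.{u} U) (𝟙 U) fun x => ⟨W x, (W x).ι, hW x, inferInstance,
      ⟨⟨x, hxW x⟩, rfl⟩, x, 𝟙 _, by simp⟩
  refine PhGood.of_standardPh g G hG fun j => ?_
  obtain ⟨x, k, hk⟩ := hr j
  rw [Category.comp_id] at hk
  have := hG.isAffine_obj j
  have h2 := (hgood x).comp k
  rwa [← Category.assoc, hk] at h2

theorem phGood_of_isPhCover {E : PreZeroHypercover.{w} T} (hE : IsPhCover E) {U : Scheme.{u}}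
    [IsAffine U] (g : U ⟶ T) : PhGood E g := by
  refine PhGood.of_locally g fun x => ?_
  obtain ⟨A, hA, hxA, -⟩ := Opens.isBasis_iff_nbhd.mp T.isBasis_affineOpens (Opens.mem_top (g x))
  obtain ⟨W, hW, hxW, hWA⟩ := Opens.isBasis_iff_nbhd.mp U.isBasis_affineOpens
    (show x ∈ g ⁻¹ᵁ A from hxA)
  refine ⟨W, hxW, hW, ?_⟩
  have : IsAffine _ := hW
  have h := PhGood.comp (hE.2 ⟨A, hA⟩) (g.resLE A W hWA)
  rwa [Scheme.Hom.resLE_comp_ι] at h

theorem isPhCover_pullback₁ {T' : Scheme.{u}} (g : T' ⟶ T) (E : PreZeroHypercover.{w} T)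
    (hE : IsPhCover E) : IsPhCover (E.pullback₁ g) := by
  refine ⟨fun i => ?_, fun U => ?_⟩
  · have := hE.1 i
    exact inferInstanceAs (LocallyOfFiniteType (pullback.fst g (E.f i)))
  · have : IsAffine _ := U.2
    obtain ⟨F, hF, hr⟩ := phGood_of_isPhCover hE ((U : T'.Opens).ι ≫ g)
    refine ⟨F, hF, fun j => ?_⟩
    obtain ⟨i, k, hk⟩ := hr j
    exact ⟨i, pullback.lift (F.f j ≫ (U : T'.Opens).ι) k (by rw [Category.assoc, hk]),
      pullback.lift_fst _ _ _⟩

theorem isPhCover_bind (E : PreZeroHypercover.{w} T) (hE : IsPhCover E)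
    (F : ∀ i, PreZeroHypercover.{w'} (E.X i)) (hF : ∀ i, IsPhCover (F i)) : IsPhCover (E.bind F) := by
  refine ⟨fun ij => ?_, fun U => ?_⟩
  · have := hE.1 ij.1
    have := (hF ij.1).1 ij.2
    exact inferInstanceAs (LocallyOfFiniteType ((F ij.1).f ij.2 ≫ E.f ij.1))
  · obtain ⟨G, hG, hr⟩ := hE.2 U
    refine PhGood.of_standardPh _ G hG fun j => ?_
    obtain ⟨i, k, hk⟩ := hr j
    have := hG.isAffine_obj j
    obtain ⟨H, hH, hrH⟩ := phGood_of_isPhCover (hF i) k
    refine ⟨H, hH, fun m => ?_⟩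
    obtain ⟨l, k', hk'⟩ := hrH m
    refine ⟨⟨i, l⟩, k', ?_⟩
    change k' ≫ (F i).f l ≫ E.f i = _
    rw [reassoc_of% hk', hk]

end GrothLib.HTop
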