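import Groth.Agent.Lib.HTop.Cover

/-! # Criteria for fpqc coverings -/

universe w w' u

open CategoryTheory CategoryTheory.Limits AlgebraicGeometry Opposite TopologicalSpace

namespace GrothLib.HTop

open _root_.HTop

set_option backward.isDefEq.respectTransparency.types false in
theorem mem_fpqcPrecoverage_iff {T : Scheme.{u}} (E : PreZeroHypercover.{w} T) :
    E.presieve₀ ∈ Scheme.fpqcPrecoverage T ↔ QuasiCompactCover E ∧ ∀ i, Flat (E.f i) := by
  constructor
  · rintro ⟨h1, h2⟩
    rw [PreZeroHypercover.presieve₀, Scheme.ofArrows_mem_precoverage_iff] at h2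
    exact ⟨Scheme.presieve₀_mem_qcPrecoverage_iff.1 h1, h2.2⟩
  · rintro ⟨h1, h2⟩
    refine ⟨Scheme.presieve₀_mem_qcPrecoverage_iff.2 h1, ?_⟩
    rw [PreZeroHypercover.presieve₀, Scheme.ofArrows_mem_precoverage_iff]
    refine ⟨fun t => ?_, h2⟩
    obtain ⟨A, hA, htA, -⟩ := Opens.isBasis_iff_nbhd.mp T.isBasis_affineOpens (Opens.mem_top t)
    obtain ⟨n, a, V, -, hcov⟩ :=
      QuasiCompactCover.exists_isAffineOpen_of_isCompact E (U := A) (IsAffineOpen.isCompact hA)
    obtain ⟨k, y, -, hy⟩ := Set.mem_iUnion.1 (hcov.ge htA)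
    exact ⟨a k, y, hy⟩

theorem quasiCompactCover_of_refined {T : Scheme.{u}} (E : PreZeroHypercover.{w} T)
    (h : ∀ U : T.affineOpens, ∃ F : PreZeroHypercover.{0} ((U : T.Opens) : Scheme.{u}),
      Finite F.I₀ ∧ (∀ j, IsAffine (F.X j)) ∧ (∀ z, ∃ (j : F.I₀) (x : F.X j), F.f j x = z) ∧
        RefinesOver (U : T.Opens).ι F E) : QuasiCompactCover E where
  isCompactOpenCovered_of_isAffineOpen {U} hU := by
    obtain ⟨F, hfin, haff, hsurj, hr⟩ := h ⟨U, hU⟩
    choose idx k hk using hr
    refine IsCompactOpenCovered.of_comp (fun j => ⇑(F.f j ≫ U.ι)) (a := idx) (fun j => ⇑(k j))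
      (fun j => (k j).continuous) (fun j => ?_) (fun i => (E.f i).continuous) U.2 ?_
    · funext x
      exact congrArg (fun φ : F.X j ⟶ T => φ x) (hk j).symm
    · refine IsCompactOpenCovered.of_finite id (fun j => ⊤) (fun j => ?_) ?_
      · have := haff j
        exact CompactSpace.isCompact_univ
      · refine subset_antisymm ?_ fun t ht => ?_
        · simp only [Set.iUnion_subset_iff]
          rintro j _ ⟨x, -, rfl⟩
          exact (F.f j x).2
        · obtain ⟨j, x, hx⟩ := hsurj ⟨t, ht⟩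
          exact Set.mem_iUnion.2 ⟨j, x, trivial, congrArg Subtype.val hx⟩

theorem quasiCompactCover_iff_nhds {T : Scheme.{u}} [QuasiSeparatedSpace T]
    (E : PreZeroHypercover.{w} T) :
    QuasiCompactCover E ↔ ∀ t : T, ∃ (n : ℕ) (i : Fin n → E.I₀) (V : ∀ j, (E.X (i j)).Opens),
      (∀ j, IsCompact (V j : Set (E.X (i j)))) ∧
        (⋃ j, ⇑(E.f (i j)) '' (V j : Set (E.X (i j)))) ∈ nhds t := by
  constructor
  · intro _ t
    obtain ⟨A, hA, htA, -⟩ := Opens.isBasis_iff_nbhd.mp T.isBasis_affineOpens (Opens.mem_top t)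
    obtain ⟨n, a, V, hV, hcov⟩ :=
      QuasiCompactCover.exists_isAffineOpen_of_isCompact E (U := A) (IsAffineOpen.isCompact hA)
    exact ⟨n, a, V, fun j => (hV j).isCompact, hcov.symm ▸ A.2.mem_nhds htA⟩
  · intro h
    refine ⟨fun {U} hU => .of_isCompact_of_forall_exists_isCompactOpenCovered hU.isCompact
      fun t ht => ?_⟩
    obtain ⟨n, i, V, hV, hn⟩ := h t
    obtain ⟨O, hOs, hO, htO⟩ := mem_nhds_iff.1 hn
    obtain ⟨A, hA, htA, hAle⟩ := Opens.isBasis_iff_nbhd.mp T.isBasis_affineOpens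
      (show t ∈ U ⊓ ⟨O, hO⟩ from ⟨ht, htO⟩)
    refine ⟨A, fun x hx => (hAle hx).1, htA, A.2, ?_⟩
    refine IsCompactOpenCovered.of_finite i (fun j => V j ⊓ E.f (i j) ⁻¹ᵁ A) (fun j => ?_) ?_
    · have : CompactSpace (V j : Scheme.{u}) := isCompact_iff_compactSpace.1 (hV j)
      have := ((V j).ι ≫ E.f (i j)).isCompact_preimage (IsAffineOpen.isCompact hA)
      have h2 := this.image (V j).ι.continuous
      convert h2 using 1
      ext x
      constructor
      · rintro ⟨hx, hx'⟩; exact ⟨⟨x, hx⟩, hx', rfl⟩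
      · rintro ⟨y, hy, rfl⟩; exact ⟨y.2, hy⟩
    · refine subset_antisymm ?_ fun x hx => ?_
      · simp only [Set.iUnion_subset_iff]
        rintro j _ ⟨y, hy, rfl⟩
        exact hy.2
      · obtain ⟨j, y, hy, rfl⟩ := Set.mem_iUnion.1 (hOs (hAle hx).2)
        exact Set.mem_iUnion.2 ⟨j, y, ⟨hy, hx⟩, rfl⟩

theorem quasiCompactCover_of_locally {T : Scheme.{u}} (E : PreZeroHypercover.{w} T)
    (V : PreZeroHypercover.{w'} T) [QuasiCompactCover V]
    (h : ∀ j, QuasiCompactCover (E.pullback₁ (V.f j))) : QuasiCompactCover E where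
  isCompactOpenCovered_of_isAffineOpen {U} hU := by
    refine IsCompactOpenCovered.of_comp
      (fun ji : Σ _ : V.I₀, E.I₀ => ⇑(pullback.fst (V.f ji.1) (E.f ji.2) ≫ V.f ji.1))
      (a := fun ji => ji.2) (fun ji => ⇑(pullback.snd (V.f ji.1) (E.f ji.2)))
      (fun ji => Scheme.Hom.continuous _) (fun ji => ?_) (fun i => (E.f i).continuous) U.2 ?_
    · funext x
      exact congrArg (fun φ : pullback (V.f ji.1) (E.f ji.2) ⟶ T => φ x) pullback.condition
    · obtain ⟨n, a, W, hW, hcov⟩ :=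
        QuasiCompactCover.exists_isAffineOpen_of_isCompact V hU.isCompact
      refine IsCompactOpenCovered.of_iUnion_eq_of_finite _ hcov fun k => ?_
      have := h (a k)
      obtain ⟨m, b, W', hW', hcov'⟩ := QuasiCompactCover.exists_isAffineOpen_of_isCompact
        (E.pullback₁ (V.f (a k))) (hW k).isCompact
      refine IsCompactOpenCovered.of_finite (fun l : Fin m => ⟨a k, b l⟩) (fun l => W' l)
        (fun l => (hW' l).isCompact) ?_
      rw [← hcov', Set.image_iUnion]
      refine Set.iUnion_congr fun l => ?_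
      rw [Set.image_image]
      exact Set.image_congr fun x _ => rfl

theorem quasiCompactCover_singleton_sigmaDesc_iff {T : Scheme.{u}} (E : PreZeroHypercover.{u} T) :
    QuasiCompactCover (PreZeroHypercover.singleton.{u} (Sigma.desc E.f)) ↔ QuasiCompactCover E := by
  constructor
  · intro _
    let G : ∀ x, PreZeroHypercover.{u} ((PreZeroHypercover.singleton.{u} (Sigma.desc E.f)).X x) :=
      fun _ => (sigmaOpenCover E.X).toPreZeroHypercover
    have : ∀ x, QuasiCompactCover (G x) := fun _ =>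
      inferInstanceAs (QuasiCompactCover (sigmaOpenCover E.X).toPreZeroHypercover)
    refine QuasiCompactCover.of_hom (𝒰 := E)
      (𝒱 := (PreZeroHypercover.singleton.{u} (Sigma.desc E.f)).bind G)
      { s₀ := fun ji => ji.2
        h₀ := fun ji => 𝟙 _
        w₀ := fun ji => ?_ }
    exact (Category.id_comp _).trans (Sigma.ι_desc E.f ji.2).symm
  · intro _
    exact QuasiCompactCover.of_hom (𝒱 := E)
      { s₀ := fun _ => PUnit.unit
        h₀ := fun i => Sigma.ι E.X i
        w₀ := fun i => Sigma.ι_desc E.f i }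

end GrothLib.HTop
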