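import Groth.Agent.Lib.HTop.Ph
import Groth.Agent.Lib.Chow.Main
import Groth.Agent.Lib.Chow.Prod
import Mathlib.AlgebraicGeometry.Morphisms.Finite

/-! # Extending proper surjective morphisms from opens, composing standard ph coverings -/

universe w w' u

open CategoryTheory CategoryTheory.Limits AlgebraicGeometry Opposite TopologicalSpace

namespace GrothLib.HTop

theorem isProper_coprodMap {X Y X' Y' : Scheme.{u}} (f : X' ⟶ X) (g : Y' ⟶ Y) [IsProper f] [IsProper g] :
    IsProper (coprod.map f g) := by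
  obtain ⟨h1, h2⟩ := ((BinaryCofan.isVanKampen_iff _).1
    (FinitaryExtensive.vanKampen _ (coprodIsCoprod X Y))
    (BinaryCofan.mk coprod.inl coprod.inr) f g (coprod.map f g) (coprod.inl_map f g).symm
    (coprod.inr_map f g).symm).1 ⟨coprodIsCoprod X' Y'⟩
  refine (IsZariskiLocalAtTarget.iff_of_openCover (P := @IsProper) (coprodOpenCover.{u, 0} X Y)).2 fun i => ?_
  rcases i with i | i
  · exact (MorphismProperty.arrow_mk_iso_iff @IsProper
      (Arrow.isoMk h1.isoPullback (Iso.refl _)
        h1.isoPullback_hom_snd)).1 ‹IsProper f›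
  · exact (MorphismProperty.arrow_mk_iso_iff @IsProper
      (Arrow.isoMk h2.isoPullback (Iso.refl _)
        h2.isoPullback_hom_snd)).1 ‹IsProper g›

theorem isProper_coprodDesc {X Y Z : Scheme.{u}} (f : X ⟶ Z) (g : Y ⟶ Z) [IsProper f] [IsProper g] :
    IsProper (coprod.desc f g) := by
  have := isProper_coprodMap f g
  have h : coprod.desc f g = coprod.map f g ≫ coprod.desc (𝟙 Z) (𝟙 Z) := by simp
  rw [h]
  infer_instance

/-- Extension of a proper surjective morphism over an affine open. -/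
theorem exists_proper_extension {U : Scheme.{u}} [CompactSpace U] [QuasiSeparatedSpace U]
    (A : U.Opens) (hA : IsAffineOpen A) {V : Scheme.{u}} (g : V ⟶ A) [IsProper g] [Surjective g] :
    ∃ (Z : Scheme.{u}) (q : Z ⟶ U) (s : ((q ⁻¹ᵁ A) : Scheme.{u}) ⟶ V),
      IsProper q ∧ Surjective q ∧ s ≫ g = q ∣_ A := by
  have : IsAffine _ := hA
  obtain ⟨M, V', π, i, hi, hib, hπ, hπs⟩ := Chow.chow g
  have := Chow.isProper_toBase M A
  have := Chow.isProper_toBase M U
  have : IsProper (π ≫ g) := inferInstance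
  have : IsProper i := by
    have : IsProper (i ≫ CohB1.ProjSpaceOver.toBase M A) := by rw [hib]; infer_instance
    exact IsProper.of_comp i (CohB1.ProjSpaceOver.toBase M A)
  let j : CohB1.ProjSpaceOver M A ⟶ CohB1.ProjSpaceOver M U :=
    pullback.map _ _ _ _ (𝟙 _) A.ι (𝟙 _) (by simp) (specULiftZIsTerminal.hom_ext _ _)
  have hjb : j ≫ CohB1.ProjSpaceOver.toBase M U = CohB1.ProjSpaceOver.toBase M A ≫ A.ι :=
    pullback.lift_snd _ _ _
  have : IsOpenImmersion j := Scheme.pullback_map_isOpenImmersion _ _ _ _ _ _ _ _ _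
  have : CompactSpace V' := QuasiCompact.compactSpace_of_compactSpace (π ≫ g)
  have : QuasiSeparatedSpace (CohB1.ProjSpaceOver M U) :=
    quasiSeparatedSpace_of_quasiSeparated (CohB1.ProjSpaceOver.toBase M U)
  let i' := i ≫ j
  have : QuasiCompact i' := quasiCompact_of_compactSpace i'
  let q₀ := i'.imageι ≫ CohB1.ProjSpaceOver.toBase M U
  have : IsProper q₀ := inferInstanceAs (IsProper (i'.imageι ≫ CohB1.ProjSpaceOver.toBase M U))
  let Cc : Closeds U := ⟨(A : Set U)ᶜ, A.2.isClosed_compl⟩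
  let C := Scheme.IdealSheafData.vanishingIdeal Cc
  have hC : Set.range C.subschemeι = (A : Set U)ᶜ := by
    rw [Scheme.IdealSheafData.range_subschemeι, Scheme.IdealSheafData.coe_support_vanishingIdeal]
    rfl
  let q := coprod.desc q₀ C.subschemeι
  have hq : IsProper q := isProper_coprodDesc _ _
  let t : V' ⟶ i'.image ⨿ C.subscheme := i'.toImage ≫ coprod.inl
  have : IsOpenImmersion t := inferInstanceAs (IsOpenImmersion (i'.toImage ≫ coprod.inl))
  have htq : t ≫ q = π ≫ g ≫ A.ι := by
    simp only [t, q, q₀, Category.assoc, coprod.inl_desc, Scheme.Hom.toImage_imageι_assoc, i']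
    rw [hjb, reassoc_of% hib]
  -- the preimage of `A` is the range of `t`
  have hrange : ((q ⁻¹ᵁ A : (i'.image ⨿ C.subscheme).Opens) : Set _) ⊆ Set.range t := by
    intro z hz
    obtain ⟨x, rfl⟩ := (coprodMk _ _).surjective z
    rcases x with x | x
    · rw [coprodMk_inl] at hz ⊢
      have hz' : CohB1.ProjSpaceOver.toBase M U (i'.imageι x) ∈ A := by
        change (coprod.inl ≫ q) x ∈ A at hz
        rw [coprod.inl_desc] at hz
        exact hz
      have hcl : i'.imageι x ∈ closure (Set.range i') := by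
        rw [← Scheme.Hom.support_ker, ← Scheme.IdealSheafData.range_subschemeι]
        exact ⟨x, rfl⟩
      obtain ⟨p, hp⟩ : i'.imageι x ∈ Set.range j :=
        (Scheme.Pullback.range_map (CohB1.ProjSpace.toSpec M (ULift.{u} ℤ)) (specULiftZIsTerminal.from A)
          _ _ (𝟙 _) A.ι (𝟙 _) _ _).ge ⟨⟨_, rfl⟩, by rw [Scheme.Opens.range_ι]; exact hz'⟩
      have : p ∈ closure (Set.range i) := by
        rw [j.isOpenEmbedding.isInducing.closure_eq_preimage_closure_image, Set.mem_preimage,
          hp, ← Set.range_comp]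
        exact hcl
      rw [i.isClosedMap.isClosed_range.closure_eq] at this
      obtain ⟨v, rfl⟩ := this
      refine ⟨v, ?_⟩
      change (coprod.inl : i'.image ⟶ i'.image ⨿ C.subscheme) (i'.toImage v) = _
      congr 1
      refine i'.imageι.isClosedEmbedding.injective ?_
      rw [← Scheme.Hom.comp_apply, Scheme.Hom.toImage_imageι]
      exact hp
    · rw [coprodMk_inr] at hz
      change (coprod.inr ≫ q) x ∈ A at hz
      rw [coprod.inr_desc] at hz
      exact absurd hz (hC.le ⟨x, rfl⟩)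
  obtain ⟨l, hl⟩ : ∃ l, l ≫ t = (q ⁻¹ᵁ A).ι :=
    ⟨_, IsOpenImmersion.lift_fac t _ (by rw [Scheme.Opens.range_ι]; exact hrange)⟩
  refine ⟨i'.image ⨿ C.subscheme, q, l ≫ π, hq, ⟨fun z => ?_⟩, ?_⟩
  · by_cases hz : z ∈ A
    · obtain ⟨v, hv⟩ := (π ≫ g).surjective ⟨z, hz⟩
      refine ⟨t v, ?_⟩
      rw [← Scheme.Hom.comp_apply, htq, ← Category.assoc, Scheme.Hom.comp_apply, hv]
      rfl
    · obtain ⟨c, hc⟩ := hC.ge hz
      exact ⟨(coprod.inr : C.subscheme ⟶ i'.image ⨿ C.subscheme) c, by
        rw [← Scheme.Hom.comp_apply, coprod.inr_desc, hc]⟩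
  · rw [← cancel_mono A.ι, morphismRestrict_ι]
    simp only [Category.assoc]
    rw [← htq, reassoc_of% hl]

end GrothLib.HTop
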