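import Groth.Agent.Lib.HTop.Ph
import Groth.Agent.Lib.HTop.Fpqc
import Groth.Agent.Lib.HTop.PhExtend
import Groth.Agent.Lib.DiagGrp.KernelFP

/-! # Separatedness of h sheaves and blow-up squares -/

universe w w' u

open CategoryTheory CategoryTheory.Limits AlgebraicGeometry Opposite TopologicalSpace

namespace GrothLib.HTop

open _root_.HTop

variable {S : Scheme.{u}}

theorem hEq_of_cover (F : Sheaf (Jh S) (Type w)) {X : Over S} (E : PreZeroHypercover.{w'} X.left)
    (hE : IsHCover E) {x y : F.obj.obj (op X)}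
    (h : ∀ i, F.obj.map (Over.homMk (E.f i) : Over.mk (E.f i ≫ X.hom) ⟶ X).op x =
      F.obj.map (Over.homMk (E.f i) : Over.mk (E.f i ≫ X.hom) ⟶ X).op y) : x = y := by
  have hm : (Sieve.overEquiv X).symm (Sieve.generate E.presieve₀) ∈ Jh S X :=
    GrothendieckTopology.overEquiv_symm_mem_over _ _ _
      (Precoverage.generate_mem_toGrothendieck ((presieve₀_mem_hPrecoverage_iff E).2 hE))
  refine (((isSheaf_iff_isSheaf_of_type _ _).1 F.property) _ hm).isSeparatedFor.ext fun Y₀ g hg => ?_
  rw [Sieve.overEquiv_symm_iff] at hg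
  obtain ⟨Z, a, b, hb, hab⟩ := hg
  obtain ⟨i⟩ := hb
  have hg' : g = (Over.homMk a (by
      change a ≫ E.f i ≫ X.hom = Y₀.hom
      rw [reassoc_of% hab, Over.w g]) : Y₀ ⟶ Over.mk (E.f i ≫ X.hom)) ≫ Over.homMk (E.f i) := by
    ext1; exact hab.symm
  rw [hg', op_comp]
  simp only [Functor.map_comp, types_comp_apply, h i]

theorem isHCover_openCover {T : Scheme.{u}} (𝒰 : Scheme.OpenCover.{w} T) :
    IsHCover 𝒰.toPreZeroHypercover :=
  ⟨fun i => inferInstanceAs (LocallyOfFinitePresentation (𝒰.f i)),
    isVCover_of_fpqc _ fun i => inferInstanceAs (Flat (𝒰.f i))⟩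

theorem lfp_coprodDesc {X Y Z : Scheme.{u}} (f : X ⟶ Z) (g : Y ⟶ Z) (hf : LocallyOfFinitePresentation f)
    (hg : LocallyOfFinitePresentation g) : LocallyOfFinitePresentation (coprod.desc f g) := by
  have := HasRingHomProperty.instIsZariskiLocalAtSource (P := @LocallyOfFinitePresentation)
    (Q := RingHom.FinitePresentation)
  refine (IsZariskiLocalAtSource.iff_of_openCover (P := @LocallyOfFinitePresentation)
    (coprodOpenCover.{u, 0} X Y)).2 fun i => ?_
  rcases i with i | i
  · change LocallyOfFinitePresentation (coprod.inl ≫ coprod.desc f g)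
    rwa [coprod.inl_desc]
  · change LocallyOfFinitePresentation (coprod.inr ≫ coprod.desc f g)
    rwa [coprod.inr_desc]

/-- An h sheaf is separated for two jointly surjective proper finitely presented morphisms. -/
theorem hEq_of_proper_pair (F : Sheaf (Jh S) (Type w)) {X A B : Over S} (a : A ⟶ X) (b : B ⟶ X)
    [IsProper a.left] [IsProper b.left] [LocallyOfFinitePresentation a.left]
    [LocallyOfFinitePresentation b.left]
    (hsurj : ∀ x : X.left, x ∈ Set.range a.left ∨ x ∈ Set.range b.left) {x y : F.obj.obj (op X)}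
    (ha : F.obj.map a.op x = F.obj.map a.op y) (hb : F.obj.map b.op x = F.obj.map b.op y) :
    x = y := by
  let d := coprod.desc a.left b.left
  have := isProper_coprodDesc a.left b.left
  have : IsProper d := this
  have : LocallyOfFinitePresentation d := lfp_coprodDesc _ _ inferInstance inferInstance
  have : Surjective d := ⟨fun p => by
    rcases hsurj p with ⟨q, hq⟩ | ⟨q, hq⟩
    · exact ⟨(coprod.inl : A.left ⟶ A.left ⨿ B.left) q, by
        rw [← Scheme.Hom.comp_apply, coprod.inl_desc, hq]⟩
    · exact ⟨(coprod.inr : B.left ⟶ A.left ⨿ B.left) q, by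
        rw [← Scheme.Hom.comp_apply, coprod.inr_desc, hq]⟩⟩
  refine hEq_of_cover F _ (isHCover_singleton.{0} d) fun _ => ?_
  let D : Over.mk (d ≫ X.hom) ⟶ X := Over.homMk d
  change F.obj.map D.op x = F.obj.map D.op y
  refine hEq_of_cover F _ (isHCover_openCover (coprodOpenCover.{u, 0} A.left B.left)) fun i => ?_
  rcases i with i | i
  · let e : Over.mk (coprod.inl ≫ (Over.mk (d ≫ X.hom)).hom) ⟶ A :=
      Over.homMk (𝟙 A.left) (by
        change 𝟙 A.left ≫ A.hom = coprod.inl ≫ d ≫ X.hom
        rw [coprod.inl_desc_assoc, Over.w a, Category.id_comp])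
    have h1 : (Over.homMk coprod.inl : Over.mk (coprod.inl ≫ (Over.mk (d ≫ X.hom)).hom) ⟶
        Over.mk (d ≫ X.hom)) ≫ D = e ≫ a := by
      ext1
      change coprod.inl ≫ d = 𝟙 _ ≫ a.left
      rw [coprod.inl_desc, Category.id_comp]
    change (F.obj.map D.op ≫ F.obj.map (Over.homMk coprod.inl : Over.mk (coprod.inl ≫ (Over.mk (d ≫ X.hom)).hom) ⟶
        Over.mk (d ≫ X.hom)).op) x = (F.obj.map D.op ≫ F.obj.map (Over.homMk coprod.inl : Over.mk (coprod.inl ≫
        (Over.mk (d ≫ X.hom)).hom) ⟶ Over.mk (d ≫ X.hom)).op) y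
    rw [← Functor.map_comp, ← op_comp, h1, op_comp, Functor.map_comp]
    simp only [types_comp_apply, ha]
  · let e : Over.mk (coprod.inr ≫ (Over.mk (d ≫ X.hom)).hom) ⟶ B :=
      Over.homMk (𝟙 B.left) (by
        change 𝟙 B.left ≫ B.hom = coprod.inr ≫ d ≫ X.hom
        rw [coprod.inr_desc_assoc, Over.w b, Category.id_comp])
    have h1 : (Over.homMk coprod.inr : Over.mk (coprod.inr ≫ (Over.mk (d ≫ X.hom)).hom) ⟶
        Over.mk (d ≫ X.hom)) ≫ D = e ≫ b := by
      ext1
      change coprod.inr ≫ d = 𝟙 _ ≫ b.left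
      rw [coprod.inr_desc, Category.id_comp]
    change (F.obj.map D.op ≫ F.obj.map (Over.homMk coprod.inr : Over.mk (coprod.inr ≫ (Over.mk (d ≫ X.hom)).hom) ⟶
        Over.mk (d ≫ X.hom)).op) x = (F.obj.map D.op ≫ F.obj.map (Over.homMk coprod.inr : Over.mk (coprod.inr ≫
        (Over.mk (d ≫ X.hom)).hom) ⟶ Over.mk (d ≫ X.hom)).op) y
    rw [← Functor.map_comp, ← op_comp, h1, op_comp, Functor.map_comp]
    simp only [types_comp_apply, hb]

theorem hSections_cartesian (F : Sheaf (Jh S) (Type w)) {E Z X Y : Over S} (e : E ⟶ X) (π : E ⟶ Z)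
    (f : X ⟶ Y) (i : Z ⟶ Y) [IsProper f.left] [Surjective f.left] [LocallyOfFinitePresentation f.left]
    [IsClosedImmersion i.left] [LocallyOfFinitePresentation i.left]
    (hsq : IsPullback e.left π.left f.left i.left)
    (U : Y.left.Opens) (hU : (U : Set Y.left) = (Set.range i.left)ᶜ) (hiso : IsIso (f.left ∣_ U))
    (t : F.obj.obj (op Z)) (s' : F.obj.obj (op X)) (hts : F.obj.map π.op t = F.obj.map e.op s') :
    ∃! s : F.obj.obj (op Y), F.obj.map i.op s = t ∧ F.obj.map f.op s = s' := by
  have hcomm : e ≫ f = π ≫ i := by ext1; exact hsq.w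
  have hcover : Sieve.generate (Presieve.singleton f) ∈ Jh S Y := by
    refine generate_singleton_mem_over f ?_
    rw [← PreZeroHypercover.presieve₀_singleton.{_, _, 0} f.left]
    exact (presieve₀_mem_hPrecoverage_iff _).2 (isHCover_singleton f.left)
  have hF : Presieve.IsSheafFor F.obj (Presieve.singleton f) := by
    rw [Presieve.isSheafFor_iff_generate]
    exact ((isSheaf_iff_isSheaf_of_type _ _).1 F.property) _ hcover
  have hcompat : ∀ {W : Over S} (p₁ p₂ : W ⟶ X), p₁ ≫ f = p₂ ≫ f →
      F.obj.map p₁.op s' = F.obj.map p₂.op s' := by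
    intro W p₁ p₂ hp
    let P : Scheme.{u} := pullback f.left f.left
    let P' : Over S := Over.mk (pullback.fst f.left f.left ≫ X.hom)
    let q₁ : P' ⟶ X := Over.homMk (pullback.fst f.left f.left)
    let q₂ : P' ⟶ X := Over.homMk (pullback.snd f.left f.left) (by
      change _ = pullback.fst f.left f.left ≫ X.hom
      rw [← Over.w f, ← reassoc_of% (pullback.condition (f := f.left) (g := f.left))])
    have hq : q₁ ≫ f = q₂ ≫ f := by ext1; exact pullback.condition
    suffices h : F.obj.map q₁.op s' = F.obj.map q₂.op s' by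
      let l : W ⟶ P' := Over.homMk (pullback.lift p₁.left p₂.left (congrArg CommaMorphism.left hp))
        (by change _ ≫ pullback.fst f.left f.left ≫ X.hom = W.hom
            rw [pullback.lift_fst_assoc, Over.w p₁])
      have h1 : l ≫ q₁ = p₁ := by ext1; exact pullback.lift_fst _ _ _
      have h2 : l ≫ q₂ = p₂ := by ext1; exact pullback.lift_snd _ _ _
      rw [← h1, ← h2, op_comp, op_comp]
      simp only [Functor.map_comp, types_comp_apply, h]
    let Δ : X ⟶ P' := Over.homMk (pullback.diagonal f.left) (by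
      change pullback.diagonal f.left ≫ pullback.fst f.left f.left ≫ X.hom = X.hom
      simp)
    have : IsProper Δ.left := inferInstanceAs (IsProper (pullback.diagonal f.left))
    have : LocallyOfFinitePresentation Δ.left := DiagGrp.lfp_of_comp_of_lft (pullback.diagonal f.left)
      (pullback.fst f.left f.left) (by rw [pullback.diagonal_fst]; infer_instance) inferInstance
    let G : Over S := Over.mk (pullback.fst (q₁.left ≫ f.left) i.left ≫ P'.hom)
    let g : G ⟶ P' := Over.homMk (pullback.fst (q₁.left ≫ f.left) i.left)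
    have : IsProper g.left := inferInstanceAs (IsProper (pullback.fst (q₁.left ≫ f.left) i.left))
    have : LocallyOfFinitePresentation g.left :=
      inferInstanceAs (LocallyOfFinitePresentation (pullback.fst (q₁.left ≫ f.left) i.left))
    let z : G ⟶ Z := Over.homMk (pullback.snd (q₁.left ≫ f.left) i.left) (by
      change _ = pullback.fst (q₁.left ≫ f.left) i.left ≫ q₁.left ≫ X.hom
      rw [← Over.w i, ← reassoc_of% (pullback.condition (f := q₁.left ≫ f.left) (g := i.left)), Over.w f])
    have hz : g ≫ q₁ ≫ f = z ≫ i := by ext1; exact pullback.condition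
    refine hEq_of_proper_pair F Δ g (fun p => ?_) ?_ ?_
    · by_cases hp : f.left (q₁.left p) ∈ Set.range i.left
      · exact Or.inr ((Scheme.Pullback.range_fst (f := q₁.left ≫ f.left) (g := i.left)).ge hp)
      · left
        have hpU : f.left (q₁.left p) ∈ U := hU.ge hp
        let W₁ : (pullback f.left f.left).Opens := (q₁.left ≫ f.left) ⁻¹ᵁ U
        have hW : (W₁.ι ≫ pullback.fst f.left f.left) = W₁.ι ≫ pullback.snd f.left f.left := by
          let l₁ := IsOpenImmersion.lift (f.left ⁻¹ᵁ U).ι (W₁.ι ≫ pullback.fst f.left f.left) (by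
            rw [Scheme.Opens.range_ι]; rintro _ ⟨x, rfl⟩; exact x.2)
          let l₂ := IsOpenImmersion.lift (f.left ⁻¹ᵁ U).ι (W₁.ι ≫ pullback.snd f.left f.left) (by
            rw [Scheme.Opens.range_ι]; rintro _ ⟨x, rfl⟩
            change f.left (pullback.snd f.left f.left x.1) ∈ U
            rw [← Scheme.Hom.comp_apply, ← pullback.condition]
            exact x.2)
          have h12 : l₁ = l₂ := by
            rw [← cancel_mono (f.left ∣_ U), ← cancel_mono U.ι]
            simp only [Category.assoc, morphismRestrict_ι, l₁, l₂, IsOpenImmersion.lift_fac_assoc,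
              pullback.condition]
          exact (IsOpenImmersion.lift_fac _ _ _).symm.trans
            ((congrArg (· ≫ (f.left ⁻¹ᵁ U).ι) h12).trans (IsOpenImmersion.lift_fac _ _ _))
        refine ⟨pullback.fst f.left f.left p, ?_⟩
        have h3 : W₁.ι ≫ pullback.fst f.left f.left ≫ pullback.diagonal f.left = W₁.ι := by
          apply pullback.hom_ext
          · simp
          · simp [hW]
        exact congrArg (fun φ : (W₁ : Scheme.{u}) ⟶ pullback f.left f.left => φ ⟨p, hpU⟩) h3
    · have h1 : Δ ≫ q₁ = Δ ≫ q₂ := by ext1; simp [Δ, q₁, q₂]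
      change (F.obj.map q₁.op ≫ F.obj.map Δ.op) s' = (F.obj.map q₂.op ≫ F.obj.map Δ.op) s'
      rw [← Functor.map_comp, ← Functor.map_comp, ← op_comp, ← op_comp, h1]
    · have hk : ∀ q : P' ⟶ X, g ≫ q ≫ f = z ≫ i →
          F.obj.map g.op (F.obj.map q.op s') = F.obj.map z.op t := by
        intro q hq'
        let m : G ⟶ E := Over.homMk (hsq.lift (g ≫ q).left z.left (by
          exact congrArg CommaMorphism.left ((Category.assoc _ _ _).trans hq'))) (by
            rw [← Over.w e, hsq.lift_fst_assoc, Over.w (g ≫ q)])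
        have h1 : m ≫ e = g ≫ q := by ext1; exact hsq.lift_fst _ _ _
        have h2 : m ≫ π = z := by ext1; exact hsq.lift_snd _ _ _
        rw [← h2, op_comp, Functor.map_comp, types_comp_apply, hts]
        change (F.obj.map q.op ≫ F.obj.map g.op) s' = (F.obj.map e.op ≫ F.obj.map m.op) s'
        rw [← Functor.map_comp, ← Functor.map_comp, ← op_comp, ← op_comp, h1]
      rw [hk q₁ hz, hk q₂ (by rw [← hq]; exact hz)]
  obtain ⟨s, hs, huniq⟩ := Presieve.isSheafFor_singleton.1 hF s' fun p₁ p₂ hp => hcompat p₁ p₂ hp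
  refine ⟨s, ⟨?_, hs⟩, fun y hy => huniq y hy.2⟩
  have : IsProper π.left := MorphismProperty.of_isPullback hsq ‹IsProper f.left›
  have : LocallyOfFinitePresentation π.left :=
    MorphismProperty.of_isPullback hsq ‹LocallyOfFinitePresentation f.left›
  have : Surjective π.left := MorphismProperty.of_isPullback hsq ‹Surjective f.left›
  refine hEq_of_proper_pair F π π (fun p => Or.inl (π.left.surjective p)) ?_ ?_ <;>
  · rw [hts, ← hs]
    change (F.obj.map i.op ≫ F.obj.map π.op) s = (F.obj.map f.op ≫ F.obj.map e.op) s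
    rw [← Functor.map_comp, ← Functor.map_comp, ← op_comp, ← op_comp, hcomm]

end GrothLib.HTop
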