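import Groth.Prelude.Def_HTop
import Mathlib.AlgebraicGeometry.ValuativeCriterion
import Mathlib.RingTheory.Valuation.LocalSubring

/-! # Lifting maps from spectra of valuation rings -/

universe w w' u

open CategoryTheory CategoryTheory.Limits AlgebraicGeometry Opposite IsLocalRing

namespace GrothLib.HTop

open _root_.HTop

/-- the generic point of `Spec R` -/
def gen (R : CommRingCat.{u}) [IsDomain R] : Spec R := (⟨⊥, Ideal.isPrime_bot⟩ : PrimeSpectrum R)

/-- the closed point of `Spec R` -/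
def closed (R : CommRingCat.{u}) [IsLocalRing R] : Spec R := IsLocalRing.closedPoint R

lemma gen_specializes {R : CommRingCat.{u}} [IsDomain R] (x : Spec R) : gen R ⤳ x :=
  (PrimeSpectrum.le_iff_specializes (⟨⊥, Ideal.isPrime_bot⟩ : PrimeSpectrum R) x).1 bot_le

lemma specializes_closed {R : CommRingCat.{u}} [IsLocalRing R] (x : Spec R) : x ⤳ closed R :=
  IsLocalRing.specializes_closedPoint x

lemma specMap_gen {R S : CommRingCat.{u}} [IsDomain R] [IsDomain S] {φ : R ⟶ S}
    (h : Function.Injective φ.hom) : Spec.map φ (gen S) = gen R :=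
  PrimeSpectrum.ext ((RingHom.injective_iff_ker_eq_bot _).1 h)

lemma injective_of_specMap_gen {R S : CommRingCat.{u}} [IsDomain R] [IsDomain S] {φ : R ⟶ S}
    (h : Spec.map φ (gen S) = gen R) : Function.Injective φ.hom :=
  (RingHom.injective_iff_ker_eq_bot _).2 (congrArg PrimeSpectrum.asIdeal h)

lemma specMap_closed {R S : CommRingCat.{u}} [IsLocalRing R] [IsLocalRing S] (φ : R ⟶ S)
    [IsLocalHom φ.hom] : Spec.map φ (closed S) = closed R :=
  IsLocalRing.comap_closedPoint φ.hom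

lemma isLocalHom_of_specMap_closed {R S : CommRingCat.{u}} [IsLocalRing R] [IsLocalRing S] (φ : R ⟶ S)
    (h : Spec.map φ (closed S) = closed R) : IsLocalHom φ.hom :=
  ((IsLocalRing.local_hom_TFAE φ.hom).out 0 4).2 (congrArg PrimeSpectrum.asIdeal h)

/-- A valuation ring realising a specialization. -/
theorem exists_valuationRing_map {X : Scheme.{u}} {ξ x : X} (h : ξ ⤳ x) :
    ∃ (W : CommRingCat.{u}) (_ : IsDomain W) (_ : ValuationRing W) (g : Spec W ⟶ X),
      g (gen W) = ξ ∧ g (closed W) = x := by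
  let α : X.presheaf.stalk x ⟶ X.residueField ξ := X.presheaf.stalkSpecializes h ≫ X.residue ξ
  obtain ⟨A, hA, hA'⟩ := IsLocalRing.exists_factor_valuationRing α.hom
  let β : X.presheaf.stalk x ⟶ CommRingCat.of A :=
    CommRingCat.ofHom (α.hom.codRestrict A.toSubring hA)
  let ι : CommRingCat.of A ⟶ X.residueField ξ := CommRingCat.ofHom (algebraMap A (X.residueField ξ))
  refine ⟨CommRingCat.of A, inferInstance, inferInstance, Spec.map β ≫ X.fromSpecStalk x, ?_, ?_⟩
  · have h1 : Spec.map ι (gen (X.residueField ξ)) = gen (CommRingCat.of A) :=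
      specMap_gen Subtype.val_injective
    have h2 : Spec.map ι ≫ Spec.map β ≫ X.fromSpecStalk x = X.fromSpecResidueField ξ := by
      rw [Scheme.fromSpecResidueField, ← Scheme.SpecMap_stalkSpecializes_fromSpecStalk h]
      simp_rw [← Spec.map_comp_assoc]
      rfl
    rw [← h1, ← Scheme.Hom.comp_apply, h2, Scheme.fromSpecResidueField_apply]
  · rw [Scheme.Hom.comp_apply]
    exact (congrArg (X.fromSpecStalk x)
      (IsLocalRing.comap_closedPoint (S := A) (α.hom.codRestrict A.toSubring hA))).trans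
      X.fromSpecStalk_closedPoint

/-- An extension of valuation rings lifting to a scheme over `Spec V`, from a specialization. -/
theorem exists_extVal {X : Scheme.{u}} {V : CommRingCat.{u}} [IsDomain V] [ValuationRing V]
    (p : X ⟶ Spec V) {ξ x : X} (h : ξ ⤳ x) (hξ : p ξ = gen V) (hx : p x = closed V) :
    ∃ (W : CommRingCat.{u}) (_ : IsDomain W) (_ : ValuationRing W) (φ : V ⟶ W),
      IsExtVal V W φ ∧ ∃ g : Spec W ⟶ X, g ≫ p = Spec.map φ := by
  obtain ⟨W, i1, i2, g, hg, hg'⟩ := exists_valuationRing_map h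
  refine ⟨W, i1, i2, Spec.preimage (g ≫ p), ⟨injective_of_specMap_gen ?_,
    isLocalHom_of_specMap_closed _ ?_⟩, g, (Spec.map_preimage _).symm⟩
  · rw [Spec.map_preimage, Scheme.Hom.comp_apply, hg, hξ]
  · rw [Spec.map_preimage, Scheme.Hom.comp_apply, hg', hx]

variable {T : Scheme.{u}} {E : PreZeroHypercover.{w} T}

/-- `HasValLift` from lifting specializations. -/
theorem hasValLift_of_forall
    (h : ∀ (V : CommRingCat.{u}) [IsDomain V] [ValuationRing V] (g : Spec V ⟶ T),
      ∃ (j : E.I₀) (ξ x : (pullback g (E.f j) : Scheme.{u})), ξ ⤳ x ∧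
        pullback.fst g (E.f j) ξ = gen V ∧ pullback.fst g (E.f j) x = closed V) :
    HasValLift E := by
  intro V _ _ g
  obtain ⟨j, ξ, x, hsp, hξ, hx⟩ := h V g
  obtain ⟨W, i1, i2, φ, hφ, l, hl⟩ := exists_extVal _ hsp hξ hx
  refine ⟨W, i1, i2, φ, hφ, j, l ≫ pullback.snd _ _, ?_⟩
  rw [Category.assoc, ← pullback.condition, ← hl, Category.assoc]

theorem isExtVal_id (V : CommRingCat.{u}) [IsDomain V] [ValuationRing V] :
    IsExtVal V V (𝟙 V) := ⟨Function.injective_id, isLocalHom_id V⟩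

theorem isExtVal_comp {U V W : CommRingCat.{u}} [IsDomain U] [ValuationRing U] [IsDomain V]
    [ValuationRing V] [IsDomain W] [ValuationRing W] {φ : U ⟶ V} {ψ : V ⟶ W}
    (hφ : IsExtVal U V φ) (hψ : IsExtVal V W ψ) : IsExtVal U W (φ ≫ ψ) :=
  have := hφ.2
  have := hψ.2
  ⟨hψ.1.comp hφ.1, RingHom.isLocalHom_comp ψ.hom φ.hom⟩

/-- A map from the spectrum of a local ring lands in any open containing the image of the closed point. -/
theorem exists_lift_of_closed_mem {W : CommRingCat.{u}} [IsLocalRing W] {X Y : Scheme.{u}}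
    (g : Spec W ⟶ X) (i : Y ⟶ X) [IsOpenImmersion i] (h : g (closed W) ∈ Set.range i) :
    ∃ l : Spec W ⟶ Y, l ≫ i = g :=
  ⟨IsOpenImmersion.lift i g (by
    rintro _ ⟨z, rfl⟩
    exact ((specializes_closed z).map g.continuous).mem_open i.isOpenEmbedding.isOpen_range h),
    IsOpenImmersion.lift_fac _ _ _⟩

theorem hasValLift_of_flat (hflat : ∀ j, Flat (E.f j)) (hsurj : ∀ t : T, ∃ (j : E.I₀) (x : E.X j), E.f j x = t) :
    HasValLift E := by
  refine hasValLift_of_forall fun V _ _ g => ?_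
  obtain ⟨j, y, hy⟩ := hsurj (g (closed V))
  obtain ⟨x, hx, -⟩ := Scheme.Pullback.exists_preimage_pullback (closed V) y hy.symm
  have := hflat j
  have hsp : gen V ⤳ pullback.fst g (E.f j) x := gen_specializes _
  obtain ⟨ξ, hξ, hξ'⟩ := Flat.generalizingMap (pullback.fst g (E.f j)) hsp
  exact ⟨j, ξ, x, hξ, hξ', hx⟩

theorem hasValLift_of_proper {U : Scheme.{u}} (f : U ⟶ T) [IsProper f] [Surjective f]
    (ι : ∀ j, E.X j ⟶ U) [∀ j, IsOpenImmersion (ι j)] (hι : ∀ j, ι j ≫ f = E.f j)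
    (hcov : ∀ x : U, ∃ j, x ∈ Set.range (ι j)) : HasValLift E := by
  intro V _ _ g
  obtain ⟨y, hy⟩ := f.surjective (g (gen V))
  obtain ⟨ξ, hξ, -⟩ := Scheme.Pullback.exists_preimage_pullback (gen V) y hy.symm
  obtain ⟨x, hsp, hx⟩ := (Scheme.Hom.isClosedMap (pullback.fst g f)).specializingMap
    (show pullback.fst g f ξ ⤳ closed V from specializes_closed _)
  obtain ⟨W, i1, i2, φ, hφ, l, hl⟩ := exists_extVal (pullback.fst g f) hsp hξ hx
  obtain ⟨j, hj⟩ := hcov ((l ≫ pullback.snd g f) (closed W))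
  obtain ⟨l', hl'⟩ := exists_lift_of_closed_mem (l ≫ pullback.snd g f) (ι j) hj
  refine ⟨W, i1, i2, φ, hφ, j, l', ?_⟩
  rw [← hι, reassoc_of% hl', ← pullback.condition, reassoc_of% hl]

theorem hasValLift_pullback₁ {T' : Scheme.{u}} (g : T' ⟶ T) (hE : HasValLift E) :
    HasValLift (E.pullback₁ g) := by
  intro V _ _ a
  obtain ⟨W, i1, i2, φ, hφ, j, l, hl⟩ := hE V (a ≫ g)
  refine ⟨W, i1, i2, φ, hφ, j, pullback.lift (Spec.map φ ≫ a) l (by rw [Category.assoc, hl]), ?_⟩
  exact pullback.lift_fst _ _ _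

theorem hasValLift_bind {F : ∀ j, PreZeroHypercover.{w'} (E.X j)} (hE : HasValLift E)
    (hF : ∀ j, HasValLift (F j)) : HasValLift (E.bind F) := by
  intro V _ _ g
  obtain ⟨W, i1, i2, φ, hφ, j, l, hl⟩ := hE V g
  obtain ⟨W', i1', i2', ψ, hψ, k, l', hl'⟩ := hF j W l
  refine ⟨W', i1', i2', φ ≫ ψ, isExtVal_comp hφ hψ, ⟨j, k⟩, l', ?_⟩
  change l' ≫ (F j).f k ≫ E.f j = _
  rw [reassoc_of% hl', hl, Spec.map_comp_assoc]

end GrothLib.HTop
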