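import Groth.Agent.Lib.HTop.Cover
import Groth.Prelude.Def_MoreMor

/-! # ph coverings: proper surjective morphisms, base change; thickenings -/

universe w w' u

open CategoryTheory CategoryTheory.Limits AlgebraicGeometry Opposite TopologicalSpace

namespace GrothLib.HTop

open _root_.HTop

variable {T : Scheme.{u}}

theorem isStandardPh_pullback₁ {T' : Scheme.{u}} [IsAffine T'] (g : T' ⟶ T)
    (E : PreZeroHypercover.{w} T) (hE : IsStandardPh E) : IsStandardPh (E.pullback₁ g) := by
  obtain ⟨U, f, ι, hp, hs, hι, hc, hcov⟩ := hE.exists_proper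
  refine ⟨inferInstance, hE.finite_index, fun j => (isStandardV_pullback₁ g E
    (isStandardV_of_isStandardPh E hE)).isAffine_obj j, pullback g f, pullback.fst g f,
    fun j => pullback.map g (E.f j) g f (𝟙 T') (ι j) (𝟙 T) (by simp)
      ((Category.comp_id _).trans (hc j).symm), inferInstance,
    inferInstance, fun j => ?_, fun j => ?_, fun x => ?_⟩
  · exact @Scheme.pullback_map_isOpenImmersion _ _ _ _ _ _ g (E.f j) g f (𝟙 T') (ι j) (𝟙 T) _ _
      inferInstance (hι j) inferInstance
  · exact (pullback.lift_fst _ _ _).trans (Category.comp_id _)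
  · obtain ⟨j, hj⟩ := hcov (pullback.snd g f x)
    exact ⟨j, (Scheme.Pullback.range_map g (E.f j) g f (𝟙 T') (ι j) (𝟙 T) _ _).ge
      ⟨⟨pullback.fst g f x, rfl⟩, hj⟩⟩

/-- A family refining a proper surjective morphism. -/
theorem isPhCover_singleton {Y : Scheme.{u}} (f : Y ⟶ T) [IsProper f] [Surjective f] :
    IsPhCover (PreZeroHypercover.singleton.{w} f) := by
  refine ⟨fun _ => show LocallyOfFiniteType f from inferInstance, fun U => ?_⟩
  have : IsAffine _ := U.2
  let fU := f ∣_ (U : T.Opens)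
  have : IsProper fU := IsZariskiLocalAtTarget.restrict ‹_› _
  have : Surjective fU := IsZariskiLocalAtTarget.restrict ‹_› _
  have : CompactSpace (f ⁻¹ᵁ (U : T.Opens) : Scheme.{u}) := isCompact_iff_compactSpace.1
    (f.isCompact_preimage U.2.isCompact)
  let Y' : Scheme.{u} := (f ⁻¹ᵁ (U : T.Opens) : Scheme.{u})
  let 𝒲 := Y'.affineCover.finiteSubcover
  obtain ⟨n, ⟨e⟩⟩ := Finite.exists_equiv_fin 𝒲.I₀
  let F : PreZeroHypercover.{0} ((U : T.Opens) : Scheme.{u}) :=
    ⟨Fin n, fun k => 𝒲.X (e.symm k), fun k => 𝒲.f (e.symm k) ≫ fU⟩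
  refine ⟨F, ⟨inferInstance, inferInstanceAs (Finite (Fin n)), fun k => ?_, Y', fU,
    fun k => 𝒲.f (e.symm k), inferInstance, inferInstance, fun k => inferInstance, fun k => rfl,
    fun y => ?_⟩, fun k => ?_⟩
  · exact inferInstanceAs (IsAffine (Y'.affineCover.X _))
  · have h : ∃ i, y ∈ Set.range (𝒲.f i) := ⟨_, 𝒲.covers y⟩
    obtain ⟨i, hi⟩ := h
    obtain ⟨k, rfl⟩ := e.symm.surjective i
    exact ⟨k, hi⟩
  · refine ⟨PUnit.unit, 𝒲.f (e.symm k) ≫ (f ⁻¹ᵁ (U : T.Opens)).ι, ?_⟩
    change (_ ≫ _) ≫ f = (_ ≫ fU) ≫ _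
    rw [Category.assoc, Category.assoc, morphismRestrict_ι]

theorem isHCover_singleton {Y : Scheme.{u}} (f : Y ⟶ T) [IsProper f] [Surjective f]
    [LocallyOfFinitePresentation f] : IsHCover (PreZeroHypercover.singleton.{w} f) := by
  refine ⟨fun _ => ‹LocallyOfFinitePresentation f›, fun U => ?_⟩
  obtain ⟨F, hF, hr⟩ := (isPhCover_singleton.{w} f).2 U
  exact ⟨F, isStandardV_of_isStandardPh F hF, hr⟩

/-- Restriction along a covering monomorphism is bijective on sheaves. -/
theorem bijective_map_of_mono {C : Type*} [Category* C] {J : GrothendieckTopology C}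
    (F : Sheaf J (Type w)) {X Y : C} (f : X ⟶ Y) [Mono f]
    (h : Sieve.generate (Presieve.singleton f) ∈ J Y) : Function.Bijective (F.obj.map f.op) := by
  have hs : Presieve.IsSheafFor F.obj (Presieve.singleton f) := by
    rw [Presieve.isSheafFor_iff_generate]
    exact ((isSheaf_iff_isSheaf_of_type _ _).1 F.property) _ h
  have hex : ∀ x, ∃! y, F.obj.map f.op y = x := fun x =>
    Presieve.isSheafFor_singleton.1 hs x fun p₁ p₂ hp => by rw [(cancel_mono f).1 hp]
  exact Function.bijective_iff_existsUnique _ |>.2 hex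

theorem generate_singleton_mem_over {P : Precoverage Scheme.{u}} {S : Scheme.{u}} {X X' : Over S}
    (f : X ⟶ X') (h : Presieve.singleton f.left ∈ P X'.left) :
    Sieve.generate (Presieve.singleton f) ∈ P.toGrothendieck.over S X' := by
  rw [GrothendieckTopology.mem_over_iff, Sieve.overEquiv_generate]
  refine GrothendieckTopology.superset_covering _ (Sieve.generate_mono ?_) (Precoverage.generate_mem_toGrothendieck h)
  rintro _ _ ⟨⟩
  exact ⟨X, f, 𝟙 _, ⟨⟩, (Category.id_comp _).symm⟩

end GrothLib.HTop
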