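import Groth.Agent.Lib.HTop.Val
import Mathlib.AlgebraicGeometry.Sites.Fpqc

/-! # Standard V coverings and V coverings -/

universe w w' w'' u

open CategoryTheory CategoryTheory.Limits AlgebraicGeometry Opposite IsLocalRing TopologicalSpace

namespace GrothLib.HTop

open _root_.HTop

variable {T : Scheme.{u}}

/-- `g : U ⟶ T` admits a standard V covering refining `E`. -/
def VGood (E : PreZeroHypercover.{w} T) {U : Scheme.{u}} (g : U ⟶ T) : Prop :=
  ∃ F : PreZeroHypercover.{0} U, IsStandardV F ∧ RefinesOver g F E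

theorem isVCover_iff (E : PreZeroHypercover.{w} T) :
    IsVCover E ↔ ∀ U : T.affineOpens, VGood E (U : T.Opens).ι := Iff.rfl

/-- Reindex a finite family by `Fin n`. -/
theorem exists_fin_reindex {U : Scheme.{u}} (F : PreZeroHypercover.{w'} U) (hF : IsStandardV F) :
    ∃ F' : PreZeroHypercover.{0} U, IsStandardV F' ∧ RefinesOver (𝟙 U) F' F := by
  have := hF.finite_index
  obtain ⟨n, ⟨e⟩⟩ := Finite.exists_equiv_fin F.I₀
  refine ⟨⟨Fin n, fun k => F.X (e.symm k), fun k => F.f (e.symm k)⟩,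
    ⟨hF.isAffine, inferInstanceAs (Finite (Fin n)), fun k => hF.isAffine_obj _, ?_⟩,
    fun k => ⟨e.symm k, 𝟙 _, by simp⟩⟩
  intro V _ _ g
  obtain ⟨W, i1, i2, φ, hφ, j, l, hl⟩ := hF.lift V g
  obtain ⟨k, rfl⟩ := e.symm.surjective j
  exact ⟨W, i1, i2, φ, hφ, k, l, hl⟩

theorem isStandardV_pullback₁ {T' : Scheme.{u}} [IsAffine T'] (g : T' ⟶ T)
    (E : PreZeroHypercover.{w} T) (hE : IsStandardV E) : IsStandardV (E.pullback₁ g) where
  isAffine := inferInstance
  finite_index := hE.finite_index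
  isAffine_obj j := by
    have := hE.isAffine
    have := hE.isAffine_obj j
    exact inferInstanceAs (IsAffine (pullback g (E.f j)))
  lift := hasValLift_pullback₁ g hE.lift

theorem isStandardV_bind (E : PreZeroHypercover.{w} T) (hE : IsStandardV E)
    (F : ∀ j, PreZeroHypercover.{w'} (E.X j)) (hF : ∀ j, IsStandardV (F j)) :
    IsStandardV (E.bind F) where
  isAffine := hE.isAffine
  finite_index := by
    have := hE.finite_index
    have := fun j => (hF j).finite_index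
    exact inferInstanceAs (Finite (Σ j, (F j).I₀))
  isAffine_obj jk := (hF jk.1).isAffine_obj jk.2
  lift := hasValLift_bind hE.lift fun j => (hF j).lift

theorem VGood.comp {E : PreZeroHypercover.{w} T} {U : Scheme.{u}} {g : U ⟶ T} (h : VGood E g)
    {W : Scheme.{u}} [IsAffine W] (a : W ⟶ U) : VGood E (a ≫ g) := by
  obtain ⟨F, hF, hr⟩ := h
  refine ⟨F.pullback₁ a, isStandardV_pullback₁ a F hF, fun j => ?_⟩
  obtain ⟨i, k, hk⟩ := hr j
  refine ⟨i, pullback.snd a (F.f j) ≫ k, ?_⟩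
  exact (Category.assoc _ _ _).trans ((congrArg (pullback.snd a (F.f j) ≫ ·) hk).trans
    (pullback.condition_assoc g).symm)

/-- Finitely many affine schemes lifting valuation rings, each good, give good. -/
theorem VGood.of_standardV {E : PreZeroHypercover.{w} T} {U : Scheme.{u}} (g : U ⟶ T)
    (G : PreZeroHypercover.{0} U) (hG : IsStandardV G) (h : ∀ j, VGood E (G.f j ≫ g)) :
    VGood E g := by
  choose F hF hr using h
  refine ⟨G.bind F, isStandardV_bind G hG F hF, fun jk => ?_⟩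
  obtain ⟨i, k, hk⟩ := hr jk.1 jk.2
  exact ⟨i, k, hk.trans (Category.assoc _ _ _).symm⟩

/-- Goodness is local on the (affine) source. -/
theorem VGood.of_locally {E : PreZeroHypercover.{w} T} {U : Scheme.{u}} [IsAffine U] (g : U ⟶ T)
    (h : ∀ x : U, ∃ W : U.Opens, x ∈ W ∧ IsAffineOpen W ∧ VGood E (W.ι ≫ g)) : VGood E g := by
  choose W hxW hW hgood using h
  obtain ⟨s, hs⟩ := CompactSpace.isCompact_univ.elim_finite_subcover (fun x => (W x : Set U))
    (fun x => (W x).isOpen) (fun x _ => Set.mem_iUnion.2 ⟨x, hxW x⟩)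
  let G₀ : PreZeroHypercover.{u} U := ⟨s, fun x => (W x.1 : Scheme.{u}), fun x => (W x.1).ι⟩
  have hG₀ : IsStandardV G₀ := by
    refine ⟨inferInstance, inferInstanceAs (Finite s), fun x => hW x.1, fun V _ _ a => ?_⟩
    obtain ⟨x, hx, hax⟩ := Set.mem_iUnion₂.1 (hs (Set.mem_univ (a (closed V))))
    obtain ⟨l, hl⟩ := exists_lift_of_closed_mem a (W x).ι (by rwa [Scheme.Opens.range_ι])
    exact ⟨V, _, _, 𝟙 V, isExtVal_id V, ⟨x, hx⟩, l, by rw [hl, Spec.map_id, Category.id_comp]⟩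
  obtain ⟨G, hG, hr⟩ := exists_fin_reindex G₀ hG₀
  refine VGood.of_standardV g G hG fun j => ?_
  obtain ⟨x, k, hk⟩ := hr j
  rw [Category.comp_id] at hk
  have := hG.isAffine_obj j
  have h2 := (hgood x.1).comp k
  rwa [← Category.assoc, hk] at h2

/-- A V covering is refined by a standard one over every affine scheme mapping to the base. -/
theorem vGood_of_isVCover {E : PreZeroHypercover.{w} T} (hE : IsVCover E) {U : Scheme.{u}}
    [IsAffine U] (g : U ⟶ T) : VGood E g := by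
  refine VGood.of_locally g fun x => ?_
  obtain ⟨A, hA, hxA, -⟩ := Opens.isBasis_iff_nbhd.mp T.isBasis_affineOpens (Opens.mem_top (g x))
  obtain ⟨W, hW, hxW, hWA⟩ := Opens.isBasis_iff_nbhd.mp U.isBasis_affineOpens
    (show x ∈ g ⁻¹ᵁ A from hxA)
  refine ⟨W, hxW, hW, ?_⟩
  have : IsAffine _ := hW
  have h := VGood.comp (hE ⟨A, hA⟩) (g.resLE A W hWA)
  rwa [Scheme.Hom.resLE_comp_ι] at h

theorem isVCover_pullback₁ {T' : Scheme.{u}} (g : T' ⟶ T) (E : PreZeroHypercover.{w} T)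
    (hE : IsVCover E) : IsVCover (E.pullback₁ g) := fun U => by
  have : IsAffine _ := U.2
  obtain ⟨F, hF, hr⟩ := vGood_of_isVCover hE ((U : T'.Opens).ι ≫ g)
  refine ⟨F, hF, fun j => ?_⟩
  obtain ⟨i, k, hk⟩ := hr j
  exact ⟨i, pullback.lift (F.f j ≫ (U : T'.Opens).ι) k (by rw [Category.assoc, hk]),
    pullback.lift_fst _ _ _⟩

theorem isVCover_bind (E : PreZeroHypercover.{w} T) (hE : IsVCover E)
    (F : ∀ i, PreZeroHypercover.{w'} (E.X i)) (hF : ∀ i, IsVCover (F i)) : IsVCover (E.bind F) := by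
  intro U
  obtain ⟨G, hG, hr⟩ := hE U
  refine VGood.of_standardV _ G hG fun j => ?_
  obtain ⟨i, k, hk⟩ := hr j
  have := hG.isAffine_obj j
  obtain ⟨H, hH, hr'⟩ := vGood_of_isVCover (hF i) k
  refine ⟨H, hH, fun l => ?_⟩
  obtain ⟨m, k', hk'⟩ := hr' l
  exact ⟨⟨i, m⟩, k', by
    change k' ≫ (F i).f m ≫ E.f i = _
    rw [reassoc_of% hk', hk]⟩

theorem hasValLift_of_isVCover {E : PreZeroHypercover.{w} T} (hE : IsVCover E) : HasValLift E := by
  intro V _ _ g
  obtain ⟨A, hA, hxA, -⟩ := Opens.isBasis_iff_nbhd.mp T.isBasis_affineOpens (Opens.mem_top (g (closed V)))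
  obtain ⟨a, ha⟩ := exists_lift_of_closed_mem g (Scheme.Opens.ι A) (by rwa [Scheme.Opens.range_ι])
  obtain ⟨F, hF, hr⟩ := hE ⟨A, hA⟩
  obtain ⟨W, i1, i2, φ, hφ, j, l, hl⟩ := hF.lift V a
  obtain ⟨i, k, hk⟩ := hr j
  refine ⟨W, i1, i2, φ, hφ, i, l ≫ k, ?_⟩
  rw [Category.assoc, hk, reassoc_of% hl, ha]

theorem isStandardV_of_flat [IsAffine T] (E : PreZeroHypercover.{w} T) (hfin : Finite E.I₀)
    (haff : ∀ j, IsAffine (E.X j)) (hflat : ∀ j, Flat (E.f j))
    (hsurj : ∀ t : T, ∃ (j : E.I₀) (x : E.X j), E.f j x = t) : IsStandardV E :=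
  ⟨‹_›, hfin, haff, hasValLift_of_flat hflat hsurj⟩

theorem isStandardV_of_isStandardPh (E : PreZeroHypercover.{w} T) (hE : IsStandardPh E) :
    IsStandardV E := by
  obtain ⟨U, f, ι, hp, hs, hι, hc, hcov⟩ := hE.exists_proper
  exact ⟨hE.isAffine, hE.finite_index, hE.isAffine_obj, hasValLift_of_proper f ι hc hcov⟩

theorem isVCover_of_fpqc (E : PreZeroHypercover.{w} T) [QuasiCompactCover E]
    (hflat : ∀ i, Flat (E.f i)) : IsVCover E := by
  intro U
  obtain ⟨n, a, V, hV, hcov⟩ := QuasiCompactCover.exists_isAffineOpen_of_isCompact E U.2.isCompact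
  have hle : ∀ k, V k ≤ E.f (a k) ⁻¹ᵁ (U : T.Opens) := fun k y hy =>
    hcov.le (Set.mem_iUnion.2 ⟨k, y, hy, rfl⟩)
  have : IsAffine _ := U.2
  refine ⟨⟨Fin n, fun k => (V k : Scheme.{u}), fun k => (E.f (a k)).resLE (U : T.Opens) (V k) (hle k)⟩,
    isStandardV_of_flat _ (inferInstanceAs (Finite (Fin n))) (fun k => hV k) (fun k => ?_) ?_,
    fun k => ⟨a k, (V k).ι, (Scheme.Hom.resLE_comp_ι _ _).symm⟩⟩
  · have := hflat (a k)
    exact inferInstanceAs (Flat ((E.f (a k)).resLE (U : T.Opens) (V k) (hle k)))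
  · intro t
    obtain ⟨k, y, hy, hyt⟩ := Set.mem_iUnion.1 (hcov.ge t.2)
    refine ⟨k, ⟨y, hy⟩, (U : T.Opens).ι.isOpenEmbedding.injective ?_⟩
    have := congrArg (fun φ : (V k : Scheme.{u}) ⟶ T => φ ⟨y, hy⟩)
      (Scheme.Hom.resLE_comp_ι (E.f (a k)) (hle k))
    exact this.trans hyt

/-- For a quasi-compact morphism, being a V cover is the valuative lifting property. -/
theorem isVCover_singleton_iff_hasValLift {X : Scheme.{u}} (f : X ⟶ T) [QuasiCompact f] :
    IsVCover (PreZeroHypercover.singleton.{w} f) ↔ HasValLift (PreZeroHypercover.singleton.{w} f) := by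
  refine ⟨hasValLift_of_isVCover, fun h U => ?_⟩
  have : IsAffine _ := U.2
  obtain ⟨Us, hUs, hUf, hUc⟩ := X.isBasis_affineOpens.exists_finite_of_isCompact
    (U := f ⁻¹ᵁ (U : T.Opens)) (f.isCompact_preimage U.2.isCompact)
  have := hUf.to_subtype
  have hle : ∀ W : Us, (W : X.Opens) ≤ f ⁻¹ᵁ (U : T.Opens) := fun W => hUc ▸ le_sSup W.2
  let F₀ : PreZeroHypercover.{u} ((U : T.Opens) : Scheme.{u}) :=
    ⟨Us, fun W => ((W : X.Opens) : Scheme.{u}), fun W => f.resLE (U : T.Opens) W (hle W)⟩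
  have hF₀ : IsStandardV F₀ := by
    refine ⟨inferInstance, inferInstanceAs (Finite Us), fun W => hUs W.2, fun V _ _ a => ?_⟩
    obtain ⟨W', i1, i2, φ, hφ, j, l₀, hl⟩ := h V (a ≫ (U : T.Opens).ι)
    let l : Spec W' ⟶ X := l₀
    change l ≫ f = _ at hl
    have hmem : l (closed W') ∈ f ⁻¹ᵁ (U : T.Opens) := by
      change (l ≫ f) (closed W') ∈ (U : T.Opens)
      rw [hl, ← Category.assoc, Scheme.Hom.comp_apply]
      exact ((Spec.map φ ≫ a) (closed W')).2
    rw [hUc] at hmem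
    obtain ⟨W, hW, hlW⟩ := Opens.mem_sSup.1 hmem
    obtain ⟨l', hl'⟩ := exists_lift_of_closed_mem l (Scheme.Opens.ι W) (by rwa [Scheme.Opens.range_ι])
    refine ⟨W', i1, i2, φ, hφ, ⟨W, hW⟩, l', ?_⟩
    refine (cancel_mono (U : T.Opens).ι).1 ?_
    change (l' ≫ f.resLE (U : T.Opens) W (hle ⟨W, hW⟩)) ≫ (U : T.Opens).ι = _
    rw [Category.assoc, Scheme.Hom.resLE_comp_ι, reassoc_of% hl', hl, Category.assoc]
  obtain ⟨F, hF, hr⟩ := exists_fin_reindex F₀ hF₀
  refine ⟨F, hF, fun j => ?_⟩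
  obtain ⟨W, k, hk⟩ := hr j
  refine ⟨PUnit.unit, k ≫ Scheme.Opens.ι (W : X.Opens), ?_⟩
  rw [Category.comp_id] at hk
  change (k ≫ Scheme.Opens.ι (W : X.Opens)) ≫ f = _
  rw [← hk, Category.assoc]
  exact (congrArg (k ≫ ·) (Scheme.Hom.resLE_comp_ι f (hle W)).symm).trans (Category.assoc _ _ _).symm

theorem hasValLift_singleton_iff {X : Scheme.{u}} (f : X ⟶ T) :
    HasValLift (PreZeroHypercover.singleton.{w} f) ↔ ∀ (Z : Scheme.{u}) (g : Z ⟶ T) (z' z : Z), z' ⤳ z →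
      ∃ w' w : ↑(pullback g f), w' ⤳ w ∧ pullback.fst g f w' = z' ∧ pullback.fst g f w = z := by
  refine ⟨fun h Z g z' z hz => ?_, fun h => hasValLift_of_forall fun V _ _ g => ⟨PUnit.unit, h _ g _ _
    (gen_specializes (closed V))⟩⟩
  obtain ⟨A, i1, i2, a, ha, ha'⟩ := exists_valuationRing_map hz
  obtain ⟨W, j1, j2, φ, hφ, j, l, hl⟩ := h A (a ≫ g)
  change l ≫ f = _ at hl
  have := hφ.2
  let m : Spec W ⟶ pullback g f := pullback.lift (Spec.map φ ≫ a) l (by
    rw [Category.assoc]; exact hl.symm)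
  have hm : m ≫ pullback.fst g f = Spec.map φ ≫ a := pullback.lift_fst _ _ _
  refine ⟨m (gen W), m (closed W), (gen_specializes _).map m.continuous, ?_, ?_⟩
  · rw [← Scheme.Hom.comp_apply, hm, Scheme.Hom.comp_apply, specMap_gen hφ.1, ha]
  · rw [← Scheme.Hom.comp_apply, hm, Scheme.Hom.comp_apply, specMap_closed, ha']

end GrothLib.HTop
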