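import Groth.Agent.Lib.HTop.Ph
import Mathlib.AlgebraicGeometry.Sites.BigZariski

/-! # Sheaf conditions: coverings refined by good coverings on affine opens -/

universe w w' u

open CategoryTheory CategoryTheory.Limits AlgebraicGeometry Opposite TopologicalSpace

namespace GrothLib.HTop

open _root_.HTop

variable {F : Scheme.{u}ᵒᵖ ⥤ Type w}

theorem presheaf_map_map_apply {X Y Z : Scheme.{u}} (f : Z ⟶ Y) (g : Y ⟶ X) (s : F.obj (op X)) :
    F.map f.op (F.map g.op s) = F.map (f ≫ g).op s := by simp

theorem isSheafFor_openCover (hF : Presieve.IsSheaf Scheme.zariskiTopology F) {X : Scheme.{u}}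
    {I : Type u} (U : I → X.Opens) (hU : IsOpenCover U) :
    Presieve.IsSheafFor F (Presieve.ofArrows _ fun i => (U i).ι) :=
  (Presieve.isSheafFor_iff_generate _).2
    (hF (Sieve.ofArrows _ fun i => (U i).ι) (X.openCoverOfIsOpenCover U hU).mem_grothendieckTopology)

theorem eq_of_isOpenCover (hF : Presieve.IsSheaf Scheme.zariskiTopology F) {X : Scheme.{u}}
    {I : Type u} (U : I → X.Opens) (hU : IsOpenCover U) {s t : F.obj (op X)}
    (h : ∀ i, F.map (U i).ι.op s = F.map (U i).ι.op t) : s = t :=
  ((Presieve.isSheafFor_arrows_iff _ _).1 (isSheafFor_openCover hF U hU) (fun i => F.map (U i).ι.op t)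
    fun i j Z p q hpq => by rw [presheaf_map_map_apply, presheaf_map_map_apply, hpq]).unique h
    fun _ => rfl

/-- Sections of a Zariski sheaf are equal if they agree on all affine opens. -/
theorem eq_of_affineOpens (hF : Presieve.IsSheaf Scheme.zariskiTopology F) {X : Scheme.{u}}
    {s t : F.obj (op X)}
    (h : ∀ U : X.affineOpens, F.map (U : X.Opens).ι.op s = F.map (U : X.Opens).ι.op t) : s = t :=
  eq_of_isOpenCover hF (fun U : X.affineOpens => (U : X.Opens)) (iSup_affineOpens_eq_top X) h

/-- Existence of the glued section. -/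
theorem exists_glue (hF : Presieve.IsSheaf Scheme.zariskiTopology F) {X : Scheme.{u}}
    (s : ∀ U : X.affineOpens, F.obj (op ((U : X.Opens) : Scheme.{u})))
    (hs : ∀ (U V : X.affineOpens) (Z : Scheme.{u}) (p : Z ⟶ (U : X.Opens)) (q : Z ⟶ (V : X.Opens)),
      p ≫ (U : X.Opens).ι = q ≫ (V : X.Opens).ι → F.map p.op (s U) = F.map q.op (s V)) :
    ∃ t : F.obj (op X), ∀ U : X.affineOpens, F.map (U : X.Opens).ι.op t = s U :=
  ((Presieve.isSheafFor_arrows_iff _ _).1
    (isSheafFor_openCover hF (fun U : X.affineOpens => (U : X.Opens)) (iSup_affineOpens_eq_top X))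
    s fun U V Z p q hpq => hs U V Z p q hpq).exists

variable (F) in
/-- A class of families on affine schemes for which `F` is a sheaf and which is stable under base change. -/
structure IsGoodClass (Q : ∀ {U : Scheme.{u}}, PreZeroHypercover.{0} U → Prop) : Prop where
  pullback {U V : Scheme.{u}} [IsAffine V] (g : V ⟶ U) {E : PreZeroHypercover.{0} U} :
    Q E → Q (E.pullback₁ g)
  isSheafFor {U : Scheme.{u}} {E : PreZeroHypercover.{0} U} : Q E → Presieve.IsSheafFor F E.presieve₀

variable {Q : ∀ {U : Scheme.{u}}, PreZeroHypercover.{0} U → Prop}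

theorem ext_of_good (hQ : IsGoodClass F Q) {U : Scheme.{u}} {G : PreZeroHypercover.{0} U}
    (hG : Q G) {s t : F.obj (op U)} (h : ∀ j, F.map (G.f j).op s = F.map (G.f j).op t) : s = t :=
  (hQ.isSheafFor hG).isSeparatedFor.ext fun Y f hf => by
    obtain ⟨j⟩ := hf
    exact h j

theorem isSheafFor_presieve₀ (hF : Presieve.IsSheaf Scheme.zariskiTopology F) (hQ : IsGoodClass F Q)
    {T : Scheme.{u}} (E : PreZeroHypercover.{w'} T)
    (hE : ∀ U : T.affineOpens, ∃ G : PreZeroHypercover.{0} ((U : T.Opens) : Scheme.{u}),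
      Q G ∧ RefinesOver (U : T.Opens).ι G E) :
    Presieve.IsSheafFor F E.presieve₀ := by
  rw [PreZeroHypercover.presieve₀, Presieve.isSheafFor_arrows_iff]
  intro x hx
  choose G hG hr using hE
  choose idx k hk using hr
  -- local sections
  have hlocal : ∀ U : T.affineOpens, ∃ s : F.obj (op ((U : T.Opens) : Scheme.{u})),
      ∀ j, F.map ((G U).f j).op s = F.map (k U j).op (x (idx U j)) := fun U => by
    have h := hQ.isSheafFor (hG U)
    rw [PreZeroHypercover.presieve₀, Presieve.isSheafFor_arrows_iff] at h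
    refine (h (fun j => F.map (k U j).op (x (idx U j))) fun a b Z p q hpq => ?_).exists
    rw [presheaf_map_map_apply, presheaf_map_map_apply]
    exact hx _ _ _ _ _ (by rw [Category.assoc, Category.assoc, hk, hk, reassoc_of% hpq])
  choose s hs using hlocal
  -- the local sections are compatible with `x`
  have hamalg : ∀ (U : T.affineOpens) (Z : Scheme.{u}) (h : Z ⟶ (U : T.Opens)) (i : E.I₀)
      (l : Z ⟶ E.X i), l ≫ E.f i = h ≫ (U : T.Opens).ι → F.map h.op (s U) = F.map l.op (x i) := by
    intro U Z h i l hl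
    refine eq_of_affineOpens hF fun V => ?_
    have : IsAffine _ := V.2
    rw [presheaf_map_map_apply, presheaf_map_map_apply]
    refine ext_of_good hQ (hQ.pullback ((V : Z.Opens).ι ≫ h) (hG U)) fun (j : (G U).I₀) => ?_
    change F.map (pullback.fst ((V : Z.Opens).ι ≫ h) ((G U).f j)).op _ =
      F.map (pullback.fst ((V : Z.Opens).ι ≫ h) ((G U).f j)).op _
    rw [presheaf_map_map_apply, presheaf_map_map_apply, pullback.condition,
      ← presheaf_map_map_apply (pullback.snd ((V : Z.Opens).ι ≫ h) ((G U).f j)) _ (s U), hs,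
      presheaf_map_map_apply]
    refine hx _ _ _ _ _ ?_
    rw [Category.assoc, hk, ← Category.assoc, ← pullback.condition]
    simp only [Category.assoc, hl]
  obtain ⟨t, ht⟩ := exists_glue hF s fun U V Z p q hpq => by
    refine eq_of_affineOpens hF fun W => ?_
    have : IsAffine _ := W.2
    rw [presheaf_map_map_apply, presheaf_map_map_apply]
    refine ext_of_good hQ (hQ.pullback ((W : Z.Opens).ι ≫ p) (hG U)) fun (j : (G U).I₀) => ?_
    change F.map (pullback.fst ((W : Z.Opens).ι ≫ p) ((G U).f j)).op _ =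
      F.map (pullback.fst ((W : Z.Opens).ι ≫ p) ((G U).f j)).op _
    rw [presheaf_map_map_apply, presheaf_map_map_apply]
    rw [hamalg U _ _ (idx U j) (pullback.snd _ _ ≫ k U j), hamalg V _ _ (idx U j)
      (pullback.snd ((W : Z.Opens).ι ≫ p) ((G U).f j) ≫ k U j)]
    · rw [Category.assoc, hk, ← Category.assoc, ← pullback.condition]
      simp only [Category.assoc, hpq]
    · rw [Category.assoc, hk, ← Category.assoc, ← pullback.condition]
  refine ⟨t, fun i => ?_, fun t' ht' => ?_⟩
  · refine eq_of_isOpenCover hF (fun A : T.affineOpens => E.f i ⁻¹ᵁ (A : T.Opens))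
      (IsOpenCover.comap (iSup_affineOpens_eq_top T) (E.f i).base.hom) fun A => ?_
    rw [← hamalg A _ (E.f i ∣_ (A : T.Opens)) i (E.f i ⁻¹ᵁ (A : T.Opens)).ι
        (morphismRestrict_ι _ _).symm, ← ht, presheaf_map_map_apply, presheaf_map_map_apply,
      morphismRestrict_ι]
  · refine eq_of_affineOpens hF fun U => ?_
    rw [ht]
    refine ext_of_good hQ (hG U) fun j => ?_
    rw [hs, presheaf_map_map_apply, ← hk, ← presheaf_map_map_apply, ht']

end GrothLib.HTop
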