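import Groth.Agent.Lib.HTop.VSheaf
import Groth.Prelude.Def_SGA1
import Mathlib.AlgebraicGeometry.Morphisms.QuasiCompact
import Mathlib.RingTheory.Spectrum.Prime.ConstructibleSet

/-! # V coverings are universally submersive -/

universe w w' u

open CategoryTheory CategoryTheory.Limits AlgebraicGeometry Opposite TopologicalSpace

namespace GrothLib.HTop

open _root_.HTop

theorem isClosed_image_of_stableUnderSpecialization {X Y : Scheme.{u}} [IsAffine X] [IsAffine Y]
    (f : X ⟶ Y) (Z : Set X) (hZ : IsClosed Z) (h : StableUnderSpecialization (f '' Z)) :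
    IsClosed (f '' Z) := by
  obtain ⟨φ, hφ⟩ := Spec.map_surjective (X.isoSpec.inv ≫ f ≫ Y.isoSpec.hom)
  let eX := Scheme.homeoOfIso X.isoSpec
  let eY := Scheme.homeoOfIso Y.isoSpec
  have hcomm : ∀ x : X, Spec.map φ (eX x) = eY (f x) := fun x => by
    change (X.isoSpec.hom ≫ Spec.map φ) x = (f ≫ Y.isoSpec.hom) x
    rw [hφ, Iso.hom_inv_id_assoc]
  have himg : Spec.map φ '' (eX '' Z) = eY '' (f '' Z) := by
    rw [Set.image_image, Set.image_image]
    exact Set.image_congr fun x _ => hcomm x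
  have h2 := PrimeSpectrum.isClosed_image_of_stableUnderSpecialization φ.hom (eX '' Z)
    (eX.isClosedMap _ hZ) (show StableUnderSpecialization (Spec.map φ '' (eX '' Z)) from
      himg ▸ h.image eY.isClosedMap.specializingMap)
  have h3 : IsClosed (eY '' (f '' Z)) := himg ▸ h2
  exact (eY.isClosed_image).1 h3

theorem stableUnderSpecialization_image_of_hasValLift {X Y : Scheme.{u}} (f : X ⟶ Y)
    (h : HasValLift (PreZeroHypercover.singleton.{0} f)) (Z : Set X) (hZ : IsClosed Z)
    (hsat : f ⁻¹' (f '' Z) ⊆ Z) : StableUnderSpecialization (f '' Z) := by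
  intro b b' hb hmem
  obtain ⟨V, i1, i2, g, hg, hg'⟩ := exists_valuationRing_map hb
  obtain ⟨W, j1, j2, φ, hφ, j, l₀, hl⟩ := h V g
  let l : Spec W ⟶ X := l₀
  change l ≫ f = _ at hl
  have := hφ.2
  have h1 : f (l (gen W)) = b := by
    rw [← Scheme.Hom.comp_apply, hl, Scheme.Hom.comp_apply, specMap_gen hφ.1, hg]
  refine ⟨l (closed W), ((gen_specializes _).map l.continuous).mem_closed hZ (hsat ?_), ?_⟩
  · change f (l (gen W)) ∈ f '' Z
    rw [h1]; exact hmem
  · rw [← Scheme.Hom.comp_apply, hl, Scheme.Hom.comp_apply, specMap_closed, hg']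

theorem surjective_of_hasValLift {X Y : Scheme.{u}} (f : X ⟶ Y)
    (h : HasValLift (PreZeroHypercover.singleton.{0} f)) : Function.Surjective f := fun b => by
  obtain ⟨w', w, -, -, hw⟩ := (hasValLift_singleton_iff f).1 h Y (𝟙 Y) b b specializes_rfl
  refine ⟨pullback.snd (𝟙 Y) f w, ?_⟩
  rw [← Scheme.Hom.comp_apply, ← pullback.condition, Category.comp_id, hw]

/-- Submersion of the base change of a V covering. -/
theorem univSubmersive_sigmaDesc_of_isVCover {T : Scheme.{u}} (E : PreZeroHypercover.{u} T)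
    (hE : IsVCover E) : SGA1.UnivSubmersive (Sigma.desc E.f) := by
  intro P Z a b p hp
  have hkey : ∀ A : Z.affineOpens, ∃ (U : Scheme.{u}) (d : U ⟶ (A : Z.Opens)) (l : U ⟶ P),
      IsAffine U ∧ HasValLift (PreZeroHypercover.singleton.{0} d) ∧ l ≫ p = d ≫ (A : Z.Opens).ι := by
    intro A
    have : IsAffine _ := A.2
    obtain ⟨F, hF, hr⟩ := vGood_of_isVCover hE ((A : Z.Opens).ι ≫ b)
    choose idx k hk using hr
    have hs := isStandardV_singleton_sigmaDesc hF
    refine ⟨∐ F.X, Sigma.desc F.f, hp.lift (Sigma.desc F.f ≫ (A : Z.Opens).ι)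
      (Sigma.desc fun j => k j ≫ Sigma.ι E.X (idx j)) ?_, hs.isAffine_obj ⟨⟩, hs.lift, hp.lift_fst _ _ _⟩
    refine Sigma.hom_ext _ _ fun j => ?_
    simp [hk]
  have hsurj : Function.Surjective p := fun z => by
    obtain ⟨A, hA, hzA, -⟩ := Opens.isBasis_iff_nbhd.mp Z.isBasis_affineOpens (Opens.mem_top z)
    obtain ⟨U, d, l, -, hd, hl⟩ := hkey ⟨A, hA⟩
    obtain ⟨u, hu⟩ := surjective_of_hasValLift d hd ⟨z, hzA⟩
    refine ⟨l u, ?_⟩
    rw [← Scheme.Hom.comp_apply, hl, Scheme.Hom.comp_apply, hu]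
    rfl
  refine Topology.isQuotientMap_iff_isClosed.2 ⟨hsurj, fun s => ⟨fun hs => hs.preimage p.continuous,
    fun hs => ?_⟩⟩
  refine (IsOpenCover.isClosed_iff_coe_preimage (iSup_affineOpens_eq_top Z) (s := s)).2 fun A => ?_
  have : IsAffine _ := A.2
  obtain ⟨U, d, l, hU, hd, hl⟩ := hkey A
  let B : Set ((A : Z.Opens) : Scheme.{u}) := (A : Z.Opens).ι ⁻¹' s
  have hZc : IsClosed (d ⁻¹' B) := by
    have he : d ⁻¹' B = l ⁻¹' (p ⁻¹' s) := by
      ext u
      change (d ≫ (A : Z.Opens).ι) u ∈ s ↔ (l ≫ p) u ∈ s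
      rw [hl]
    rw [he]
    exact hs.preimage l.continuous
  have himg : d '' (d ⁻¹' B) = B := Set.image_preimage_eq _ (surjective_of_hasValLift d hd)
  have := isClosed_image_of_stableUnderSpecialization d _ hZc
    (stableUnderSpecialization_image_of_hasValLift d hd _ hZc (Set.preimage_mono himg.le))
  rw [himg] at this
  exact this

end GrothLib.HTop
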