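import Groth.Agent.Lib.HTop.Cover
import Mathlib.AlgebraicGeometry.AffineTransitionLimit
import Mathlib.CategoryTheory.Limits.Constructions.Over.Connected
import Mathlib.CategoryTheory.Limits.Preserves.Shapes.Pullbacks

/-! # The valuative lifting criterion passes to cofiltered limits of affine schemes -/

universe w w' u

open CategoryTheory CategoryTheory.Limits AlgebraicGeometry Opposite IsLocalRing

namespace GrothLib.HTop

open _root_.HTop

variable {V : CommRingCat.{u}} [IsDomain V] [ValuationRing V]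

/-- the structure map of a scheme over `Spec V` on global functions -/
noncomputable def gMap {P : Scheme.{u}} (p : P ⟶ Spec V) : V ⟶ Γ(P, ⊤) :=
  (Scheme.ΓSpecIso V).inv ≫ p.appTop

lemma gMap_comp {P Q : Scheme.{u}} (h : Q ⟶ P) (p : P ⟶ Spec V) (v : V) :
    (gMap (h ≫ p)).hom v = h.appTop.hom ((gMap p).hom v) := by
  simp only [gMap, Scheme.Hom.comp_appTop, CommRingCat.hom_comp, RingHom.comp_apply]

lemma eq_isoSpec_comp {P : Scheme.{u}} [IsAffine P] (p : P ⟶ Spec V) :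
    p = P.isoSpec.hom ≫ Spec.map (gMap p) := by
  rw [gMap, Spec.map_comp, ← Category.assoc, Scheme.isoSpec_hom_naturality, Scheme.isoSpec_Spec_hom,
    Category.assoc, ← Spec.map_comp, Iso.inv_hom_id, Spec.map_id, Category.comp_id]

/-- No relation `c (1 - a b) = 0` with `a` in the maximal ideal and `c ≠ 0`. -/
def VCrit {P : Scheme.{u}} (p : P ⟶ Spec V) : Prop :=
  ∀ (a c : V), a ∈ maximalIdeal V → c ≠ 0 → ∀ b : Γ(P, ⊤),
    (gMap p).hom c * (1 - (gMap p).hom a * b) ≠ 0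

theorem vCrit_of_specializes {P : Scheme.{u}} [IsAffine P] (p : P ⟶ Spec V) {ξ x : P} (h : ξ ⤳ x)
    (hξ : p ξ = gen V) (hx : p x = closed V) : VCrit p := by
  intro a c ha hc b hb
  rw [eq_isoSpec_comp p, Scheme.Hom.comp_apply] at hξ hx
  let P₁ : PrimeSpectrum Γ(P, ⊤) := P.isoSpec.hom ξ
  let P₂ : PrimeSpectrum Γ(P, ⊤) := P.isoSpec.hom x
  have h12 : P₁.asIdeal ≤ P₂.asIdeal :=
    (PrimeSpectrum.le_iff_specializes P₁ P₂).2 (h.map P.isoSpec.hom.continuous)
  have hca : (gMap p).hom c ∉ P₁.asIdeal := fun hh => hc ((congrArg PrimeSpectrum.asIdeal hξ).le hh)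
  have haa : (gMap p).hom a ∈ P₂.asIdeal := (congrArg PrimeSpectrum.asIdeal hx).ge ha
  have h1 : 1 - (gMap p).hom a * b ∈ P₂.asIdeal :=
    h12 ((P₁.2.mem_or_mem (by rw [hb]; exact P₁.asIdeal.zero_mem)).resolve_left hca)
  exact P₂.2.ne_top ((Ideal.eq_top_iff_one _).2
    (by simpa using P₂.asIdeal.add_mem h1 (P₂.asIdeal.mul_mem_right b haa)))

theorem exists_specializes_of_vCrit {P : Scheme.{u}} [IsAffine P] (p : P ⟶ Spec V) (h : VCrit p) :
    ∃ ξ x : P, ξ ⤳ x ∧ p ξ = gen V ∧ p x = closed V := by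
  let φ := (gMap p).hom
  let J : Ideal Γ(P, ⊤) :=
    { carrier := {y | ∃ a ∈ maximalIdeal V, ∃ c : V, c ≠ 0 ∧ ∃ b, φ c * (y - φ a * b) = 0}
      zero_mem' := ⟨0, Ideal.zero_mem _, 1, one_ne_zero, 0, by simp⟩
      smul_mem' := by
        rintro r y ⟨a, ha, c, hc, b, hb⟩
        exact ⟨a, ha, c, hc, r * b, by rw [smul_eq_mul]; linear_combination r * hb⟩
      add_mem' := by
        rintro y₁ y₂ ⟨a₁, ha₁, c₁, hc₁, b₁, hb₁⟩ ⟨a₂, ha₂, c₂, hc₂, b₂, hb₂⟩
        obtain ⟨d, hd | hd⟩ := ValuationRing.cond a₁ a₂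
        · refine ⟨a₁, ha₁, c₁ * c₂, mul_ne_zero hc₁ hc₂, b₁ + φ d * b₂, ?_⟩
          rw [← hd, map_mul] at hb₂
          rw [map_mul]
          linear_combination φ c₂ * hb₁ + φ c₁ * hb₂
        · refine ⟨a₂, ha₂, c₁ * c₂, mul_ne_zero hc₁ hc₂, φ d * b₁ + b₂, ?_⟩
          rw [← hd, map_mul] at hb₁
          rw [map_mul]
          linear_combination φ c₂ * hb₁ + φ c₁ * hb₂ }
  have hJ : J ≠ ⊤ := fun hh => by
    obtain ⟨a, ha, c, hc, b, hb⟩ := (Ideal.eq_top_iff_one J).1 hh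
    exact h a c ha hc b hb
  obtain ⟨q, hq, hJq⟩ := Ideal.exists_le_maximal J hJ
  have := hq.isPrime
  have hmq : ∀ a ∈ maximalIdeal V, φ a ∈ q := fun a ha =>
    hJq ⟨a, ha, 1, one_ne_zero, 1, by simp⟩
  let T : Submonoid Γ(P, ⊤) :=
    { carrier := {y | ∃ c : V, c ≠ 0 ∧ ∃ s ∉ q, y = φ c * s}
      one_mem' := ⟨1, one_ne_zero, 1, fun hh => hq.ne_top ((Ideal.eq_top_iff_one q).2 hh), by simp⟩
      mul_mem' := by
        rintro _ _ ⟨c₁, hc₁, s₁, hs₁, rfl⟩ ⟨c₂, hc₂, s₂, hs₂, rfl⟩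
        exact ⟨c₁ * c₂, mul_ne_zero hc₁ hc₂, s₁ * s₂, fun hh => (this.mem_or_mem hh).elim hs₁ hs₂,
          by rw [map_mul]; ring⟩ }
  obtain ⟨r, hr, -, hdisj⟩ := Ideal.exists_le_prime_disjoint (⊥ : Ideal Γ(P, ⊤)) T <| by
    rw [Set.disjoint_left]
    rintro y hy ⟨c, hc, s, hs, rfl⟩
    exact hs (hJq ⟨0, Ideal.zero_mem _, c, hc, 0, by simpa using hy⟩)
  have hrq : r ≤ q := fun y hy => by
    by_contra hyq
    exact Set.disjoint_left.1 hdisj hy ⟨1, one_ne_zero, y, hyq, by simp⟩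
  let e := Scheme.homeoOfIso P.isoSpec
  refine ⟨e.symm (⟨r, hr⟩ : PrimeSpectrum Γ(P, ⊤)), e.symm (⟨q, this⟩ : PrimeSpectrum Γ(P, ⊤)),
    ((PrimeSpectrum.le_iff_specializes (⟨r, hr⟩ : PrimeSpectrum Γ(P, ⊤)) ⟨q, this⟩).1 hrq).map
      e.symm.continuous, ?_, ?_⟩
  · rw [eq_isoSpec_comp p, Scheme.Hom.comp_apply]
    refine (congrArg (Spec.map (gMap p)) (e.apply_symm_apply _)).trans ?_
    refine PrimeSpectrum.ext (eq_bot_iff.2 fun v hv => ?_)
    by_contra hv0
    exact Set.disjoint_left.1 hdisj hv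
      ⟨v, hv0, 1, fun hh => hq.ne_top ((Ideal.eq_top_iff_one q).2 hh), by simp [φ]⟩
  · rw [eq_isoSpec_comp p, Scheme.Hom.comp_apply]
    refine (congrArg (Spec.map (gMap p)) (e.apply_symm_apply _)).trans ?_
    refine PrimeSpectrum.ext ?_
    exact ((maximalIdeal.isMaximal V).eq_of_le (Ideal.IsPrime.ne_top
      (inferInstanceAs (q.comap φ).IsPrime)) fun a ha => hmq a ha).symm

theorem vCrit_of_isLimit {I : Type u} [SmallCategory I] [IsCofiltered I] (D : I ⥤ Scheme.{u})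
    [∀ i, IsAffine (D.obj i)] (c : Cone D) (hc : IsLimit c) (p : c.pt ⟶ Spec V)
    (q : ∀ i, D.obj i ⟶ Spec V) (hq : ∀ {i j} (f : i ⟶ j), D.map f ≫ q j = q i)
    (hp : ∀ i, c.π.app i ≫ q i = p) (h : ∀ i, VCrit (q i)) : VCrit p := by
  intro a d ha hd b hb
  obtain ⟨i, b', rfl⟩ := exists_appTop_π_eq_of_isAffine_of_isLimit D c hc b
  rw [← hp i, gMap_comp, gMap_comp] at hb
  obtain ⟨j, f, hf⟩ := exists_appTop_map_eq_zero_of_isAffine_of_isLimit D c hc i
    ((gMap (q i)).hom d * (1 - (gMap (q i)).hom a * b')) (by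
      simp only [map_mul, map_sub, map_one]; exact hb)
  refine h j a d ha hd ((D.map f).appTop.hom b') ?_
  rw [← hq f, gMap_comp, gMap_comp]
  simpa only [map_mul, map_sub, map_one] using hf

theorem isStandardV_singleton_of_isLimit_iff {Y : Scheme.{u}} [IsAffine Y] {I : Type u}
    [SmallCategory I] [IsCofiltered I] (D : I ⥤ Over Y) [∀ i, IsAffine (D.obj i).left] (c : Cone D)
    (hc : IsLimit ((Over.forget Y).mapCone c)) :
    IsStandardV (PreZeroHypercover.singleton.{w} c.pt.hom) ↔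
      ∀ i, IsStandardV (PreZeroHypercover.singleton.{w} (D.obj i).hom) := by
  have : ∀ i, IsAffine ((D ⋙ Over.forget Y).obj i) := ‹∀ i, IsAffine (D.obj i).left›
  have hA : IsAffine c.pt.left := Scheme.isAffine_of_isLimit _ hc
  constructor
  · intro h i
    refine ⟨inferInstance, inferInstanceAs (Finite PUnit), fun _ => ‹∀ i, IsAffine (D.obj i).left› i,
      fun V _ _ g => ?_⟩
    obtain ⟨W, i1, i2, φ, hφ, j, l₀, hl⟩ := h.lift V g
    refine ⟨W, i1, i2, φ, hφ, PUnit.unit, (l₀ : Spec W ⟶ c.pt.left) ≫ (c.π.app i).left, ?_⟩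
    exact (Category.assoc (l₀ : Spec W ⟶ c.pt.left) _ _).trans
      ((congrArg ((l₀ : Spec W ⟶ c.pt.left) ≫ ·) (Over.w (c.π.app i))).trans hl)
  · intro h
    refine ⟨inferInstance, inferInstanceAs (Finite PUnit), fun _ => hA,
      hasValLift_of_forall fun V _ _ g => ⟨PUnit.unit, ?_⟩⟩
    let D' : I ⥤ Scheme.{u} := D ⋙ Over.pullback g ⋙ Over.forget (Spec V)
    have : IsConnected I := IsCofiltered.isConnected I
    have hc1 : IsLimit c := isLimitOfReflects (Over.forget Y) hc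
    have hc' := isLimitOfPreserves (Over.pullback g ⋙ Over.forget (Spec V)) hc1
    have : ∀ i, IsAffine (D'.obj i) := fun i => inferInstanceAs (IsAffine (pullback (D.obj i).hom g))
    have hcr : ∀ i, VCrit (V := V) (pullback.snd (D.obj i).hom g) := fun i => by
      obtain ⟨w', w, hw, hw'1, hw1⟩ := (hasValLift_singleton_iff (D.obj i).hom).1 (h i).lift (Spec V) g
        (gen V) (closed V) (gen_specializes _)
      let e := (pullbackSymmetry g (D.obj i).hom).hom
      have he : e ≫ pullback.snd (D.obj i).hom g = pullback.fst g (D.obj i).hom :=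
        pullbackSymmetry_hom_comp_snd _ _
      refine vCrit_of_specializes _ (hw.map e.continuous) ?_ ?_
      · rw [← Scheme.Hom.comp_apply, he, hw'1]
      · rw [← Scheme.Hom.comp_apply, he, hw1]
    have hlim : VCrit (V := V) (pullback.snd c.pt.hom g) :=
      vCrit_of_isLimit D' _ hc' _ (fun i => pullback.snd (D.obj i).hom g)
        (fun {i j} f => pullback.lift_snd _ _ _) (fun i => pullback.lift_snd _ _ _) hcr
    obtain ⟨ξ, x, hsp, hξ, hx⟩ := exists_specializes_of_vCrit (P := pullback c.pt.hom g) _ hlim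
    let e := (pullbackSymmetry c.pt.hom g).hom
    have he : e ≫ pullback.fst g c.pt.hom = pullback.snd c.pt.hom g :=
      pullbackSymmetry_hom_comp_fst _ _
    refine ⟨e ξ, e x, hsp.map e.continuous, ?_, ?_⟩
    · change pullback.fst g c.pt.hom (e ξ) = _
      rw [← Scheme.Hom.comp_apply, he, hξ]
    · change pullback.fst g c.pt.hom (e x) = _
      rw [← Scheme.Hom.comp_apply, he, hx]

end GrothLib.HTop
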