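import Groth.Agent.Lib.HTop.Sheaf
import Mathlib.CategoryTheory.Sites.CoproductSheafCondition

/-! # V sheaves and ph sheaves -/

universe w w' u

open CategoryTheory CategoryTheory.Limits AlgebraicGeometry Opposite TopologicalSpace

namespace GrothLib.HTop

open _root_.HTop

variable {F : Scheme.{u}ᵒᵖ ⥤ Type w}

theorem isVCover_of_isStandardV {T : Scheme.{u}} {E : PreZeroHypercover.{w'} T} (hE : IsStandardV E) :
    IsVCover E := fun U => by
  have : IsAffine _ := U.2
  obtain ⟨G, hG, hr⟩ := exists_fin_reindex _ (isStandardV_pullback₁ (U : T.Opens).ι E hE)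
  refine ⟨G, hG, fun j => ?_⟩
  obtain ⟨i, k, hk⟩ := hr j
  rw [Category.comp_id] at hk
  refine ⟨i, k ≫ pullback.snd (U : T.Opens).ι (E.f i), ?_⟩
  exact (Category.assoc _ _ _).trans ((congrArg (k ≫ ·) pullback.condition.symm).trans
    ((Category.assoc _ _ _).symm.trans (congrArg (· ≫ (U : T.Opens).ι) hk)))

theorem isSheaf_zariski_of_isVSheaf (h : IsVSheaf F) : Presieve.IsSheaf Scheme.zariskiTopology F := by
  rw [Scheme.zariskiTopology, Scheme.grothendieckTopology,
    Precoverage.isSheaf_toGrothendieck_iff_of_isStableUnderBaseChange]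
  intro X R hR
  obtain ⟨𝒰, rfl⟩ := Scheme.exists_cover_of_mem_pretopology hR
  exact h _ ((presieve₀_mem_vPrecoverage_iff _).2 (isVCover_of_fpqc _ fun i =>
    inferInstanceAs (Flat (𝒰.f i))))

theorem isVSheaf_of_standard (hF : Presieve.IsSheaf Scheme.zariskiTopology F)
    (h : ∀ (T : Scheme.{u}) (E : PreZeroHypercover.{0} T), IsStandardV E →
      Presieve.IsSheafFor F E.presieve₀) : IsVSheaf F := by
  intro X R hR
  obtain ⟨E, rfl⟩ := R.exists_eq_preZeroHypercover
  have hE := (presieve₀_mem_vPrecoverage_iff _).1 hR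
  exact isSheafFor_presieve₀ hF (Q := fun {U} E => IsStandardV E)
    ⟨fun {U V} _ g {E} hE => isStandardV_pullback₁ g E hE, fun {U E} hE => h U E hE⟩ E hE

theorem isSheafFor_of_sigmaDesc (hF : Presieve.IsSheaf Scheme.zariskiTopology F) {T : Scheme.{u}}
    (E : PreZeroHypercover.{0} T) [Finite E.I₀]
    (h : Presieve.IsSheafFor F (Presieve.singleton (Sigma.desc E.f))) :
    Presieve.IsSheafFor F E.presieve₀ := by
  have : PreservesLimitsOfShape (Discrete (E.I₀ × E.I₀)) F :=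
    preservesLimitsOfShape_discrete_of_isSheaf_zariskiTopology hF
  have : PreservesLimitsOfShape (Discrete E.I₀) F :=
    preservesLimitsOfShape_discrete_of_isSheaf_zariskiTopology hF
  exact (Presieve.isSheafFor_sigmaDesc_iff E.f (coproductIsCoproduct E.X)
    (FinitaryExtensive.isVanKampen_finiteCoproducts (coproductIsCoproduct _)).isUniversal F).1
    (by convert! h)

theorem isStandardV_singleton_sigmaDesc {T : Scheme.{u}} {E : PreZeroHypercover.{0} T}
    (hE : IsStandardV E) : IsStandardV (PreZeroHypercover.singleton.{0} (Sigma.desc E.f)) := by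
  have := hE.finite_index
  have := hE.isAffine_obj
  refine ⟨hE.isAffine, inferInstanceAs (Finite PUnit), fun _ => inferInstanceAs (IsAffine (∐ E.X)),
    fun V _ _ g => ?_⟩
  obtain ⟨W, i1, i2, φ, hφ, j, l, hl⟩ := hE.lift V g
  refine ⟨W, i1, i2, φ, hφ, PUnit.unit, l ≫ Sigma.ι E.X j, ?_⟩
  change (l ≫ Sigma.ι E.X j) ≫ Sigma.desc E.f = _
  rw [Category.assoc, Sigma.ι_desc, hl]

theorem isSheafFor_presieve₀_ulift {T : Scheme.{u}} (E : PreZeroHypercover.{0} T)
    (h : Presieve.IsSheafFor F (PreZeroHypercover.mk (ULift.{u} E.I₀) (fun i => E.X i.down)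
      (fun i => E.f i.down) : PreZeroHypercover.{u} T).presieve₀) :
    Presieve.IsSheafFor F E.presieve₀ := by
  convert h using 1
  refine le_antisymm ?_ ?_
  · rintro _ _ ⟨i⟩; exact ⟨ULift.up i⟩
  · rintro _ _ ⟨i⟩; exact ⟨i.down⟩

theorem isSheafFor_standardPh (hF : Presieve.IsSheaf Scheme.zariskiTopology F)
    (h₂ : ∀ (U V : Scheme.{u}) (f : V ⟶ U), IsProper f → Surjective f →
      Presieve.IsSheafFor F (Presieve.singleton f))
    {T : Scheme.{u}} {E : PreZeroHypercover.{0} T} (hE : IsStandardPh E) :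
    Presieve.IsSheafFor F E.presieve₀ := by
  obtain ⟨U, f, ι, hp, hs, hι, hc, hcov⟩ := hE.exists_proper
  have hf := h₂ T U f hp hs
  rw [PreZeroHypercover.presieve₀, Presieve.isSheafFor_arrows_iff]
  intro x hx
  let 𝒰 : U.OpenCover := Scheme.Cover.mkOfCovers E.I₀ E.X ι
    (fun y => (hcov y).elim fun j hj => ⟨j, hj⟩) hι
  have h𝒰 : Presieve.IsSheafFor F (Presieve.ofArrows E.X ι) :=
    (Presieve.isSheafFor_iff_generate _).2 (hF _ 𝒰.mem_grothendieckTopology)
  obtain ⟨y, hy, -⟩ := (Presieve.isSheafFor_arrows_iff _ _).1 h𝒰 x fun i j Z p q hpq =>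
    hx i j Z p q (by rw [← hc i, ← hc j, reassoc_of% hpq])
  obtain ⟨t, ht, -⟩ := Presieve.isSheafFor_singleton.1 hf y fun {Z} p q hpq => by
    let W : ULift.{u} (E.I₀ × E.I₀) → Z.Opens := fun ab =>
      p ⁻¹ᵁ (ι ab.down.1).opensRange ⊓ q ⁻¹ᵁ (ι ab.down.2).opensRange
    refine eq_of_isOpenCover hF W (eq_top_iff.2 fun z _ => ?_) fun ab => ?_
    · obtain ⟨a, ha⟩ := hcov (p z)
      obtain ⟨b, hb⟩ := hcov (q z)
      exact Opens.mem_iSup.2 ⟨⟨a, b⟩, ha, hb⟩
    · obtain ⟨p', hp'⟩ : ∃ p', p' ≫ ι ab.down.1 = (W ab).ι ≫ p :=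
        ⟨_, IsOpenImmersion.lift_fac _ _ (by rintro _ ⟨z, rfl⟩; exact z.2.1)⟩
      obtain ⟨q', hq'⟩ : ∃ q', q' ≫ ι ab.down.2 = (W ab).ι ≫ q :=
        ⟨_, IsOpenImmersion.lift_fac _ _ (by rintro _ ⟨z, rfl⟩; exact z.2.2)⟩
      rw [presheaf_map_map_apply, presheaf_map_map_apply, ← hp', ← hq', ← presheaf_map_map_apply,
        ← presheaf_map_map_apply, hy, hy]
      refine hx _ _ _ _ _ ?_
      rw [← hc, ← hc, reassoc_of% hp', reassoc_of% hq', hpq]
  refine ⟨t, fun j => ?_, fun t' ht' => ?_⟩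
  · rw [← hc j, ← presheaf_map_map_apply, ht, hy]
  · refine hf.isSeparatedFor.ext fun Y g hg => ?_
    obtain ⟨⟩ := hg
    rw [ht]
    refine eq_of_isOpenCover hF (fun j : ULift.{u} E.I₀ => (ι j.down).opensRange)
      (eq_top_iff.2 fun z _ => ?_) fun j => ?_
    · obtain ⟨a, ha⟩ := hcov z
      exact Opens.mem_iSup.2 ⟨⟨a⟩, ha⟩
    · rw [presheaf_map_map_apply, ← (ι j.down).isoOpensRange_inv_comp, Category.assoc, hc,
        ← presheaf_map_map_apply, ht', ← presheaf_map_map_apply, hy]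

theorem isPhSheaf_of_zariski_of_proper_surjective (hF : Presieve.IsSheaf Scheme.zariskiTopology F)
    (h₂ : ∀ (U V : Scheme.{u}) (f : V ⟶ U), IsProper f → Surjective f →
      Presieve.IsSheafFor F (Presieve.singleton f)) : IsPhSheaf F := by
  intro X R hR
  obtain ⟨E, rfl⟩ := R.exists_eq_preZeroHypercover
  exact isSheafFor_presieve₀ hF (Q := fun {U} E => IsStandardPh E)
    ⟨fun {U V} _ g {E} hE => isStandardPh_pullback₁ g E hE,
      fun {U E} hE => isSheafFor_standardPh hF h₂ hE⟩ E ((presieve₀_mem_phPrecoverage_iff _).1 hR).2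

end GrothLib.HTop
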